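import Groth.Agent.FibC.Fp

/-!
Functors between categories fibred in groupoids; inertia.
-/

set_option backward.isDefEq.respectTransparency false
set_option backward.isDefEq.respectTransparency.types false

universe v₃ u₃ v₂ u₂ v u

open CategoryTheory CategoryTheory.Functor

namespace Groth.Agent.FibC

variable {C : Type u} [Category.{v} C]
variable {𝒳 : BasedCategory.{v₂, u₂} C} {𝒴 : BasedCategory.{v₃, u₃} C}

theorem map_fac_base (G : 𝒳 ⥤ᵇ 𝒴) {a b : 𝒳.obj} (φ : a ⟶ b) :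
    𝒴.p.IsHomLift (𝒳.p.map φ) (G.toFunctor.map φ) :=
  BasedFunctor.preserves_isHomLift G _ φ

/-- Every morphism of the source is strongly cartesian relative to a functor between categories
fibred in groupoids. -/
theorem sc_rel (h𝒳 : FibCat.IsFibGrpd 𝒳.p) (h𝒴 : FibCat.IsFibGrpd 𝒴.p) (G : 𝒳 ⥤ᵇ 𝒴)
    {b a : 𝒳.obj} (φ : b ⟶ a) : G.toFunctor.IsStronglyCartesian (G.toFunctor.map φ) φ := by
  refine @IsStronglyCartesian.mk _ _ _ _ _ _ _ _ _ _ φ inferInstance ?_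
  intro z h ψ hψ
  have e : h ≫ G.toFunctor.map φ = G.toFunctor.map ψ :=
    IsHomLift.eq_of_isHomLift G.toFunctor (h ≫ G.toFunctor.map φ) ψ
  let g : 𝒳.p.obj z ⟶ 𝒳.p.obj b := eqToHom (G.w_obj z).symm ≫ 𝒴.p.map h ≫ eqToHom (G.w_obj b)
  have hg : g ≫ 𝒳.p.map φ = 𝒳.p.map ψ := by
    have := congrArg 𝒴.p.map e
    rw [Functor.map_comp, w_map G φ, w_map G ψ] at this
    rw [← cancel_mono (eqToHom (G.w_obj a).symm), ← cancel_epi (eqToHom (G.w_obj z))]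
    simpa [g] using this
  have := h𝒳.isStronglyCartesian φ
  obtain ⟨χ, ⟨hχ, hχ'⟩, hu⟩ := IsStronglyCartesian.universal_property 𝒳.p (𝒳.p.map φ) φ g
    (𝒳.p.map ψ) hg.symm ψ
  have hl : 𝒴.p.IsHomLift g h := IsHomLift.of_fac 𝒴.p g h (G.w_obj z) (G.w_obj b) rfl
  have := sc_of_fibGrpd h𝒴 (𝒳.p.map φ) (G.toFunctor.map φ)
  have key : G.toFunctor.map χ = h := IsStronglyCartesian.ext 𝒴.p (𝒳.p.map φ) (G.toFunctor.map φ) g
    (by rw [← Functor.map_comp, hχ', e])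
  refine ⟨χ, ⟨key ▸ IsHomLift.map G.toFunctor χ, hχ'⟩, ?_⟩
  rintro χ' ⟨h₁, h₂⟩
  refine hu χ' ⟨?_, h₂⟩
  rw [← BasedFunctor.isHomLift_iff G, ← IsHomLift.eq_of_isHomLift G.toFunctor h χ']
  exact hl

/-- A functor between categories fibred in groupoids that lifts isomorphisms is fibred in groupoids. -/
theorem isFibGrpd_of_isoLift (h𝒳 : FibCat.IsFibGrpd 𝒳.p) (h𝒴 : FibCat.IsFibGrpd 𝒴.p) (G : 𝒳 ⥤ᵇ 𝒴)
    (hiso : ∀ (a : 𝒳.obj) (b : 𝒴.obj) (e : b ≅ G.toFunctor.obj a),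
      𝒴.p.IsHomLift (𝟙 (𝒳.p.obj a)) e.hom →
        ∃ (a' : 𝒳.obj) (φ : a' ⟶ a), G.toFunctor.IsHomLift e.hom φ) :
    FibCat.IsFibGrpd G.toFunctor := by
  refine ⟨fun {a b} h => ?_, fun {b a} φ => sc_rel h𝒳 h𝒴 G φ⟩
  let f : 𝒴.p.obj b ⟶ 𝒳.p.obj a := 𝒴.p.map h ≫ eqToHom (G.w_obj a)
  have hh : 𝒴.p.IsHomLift f h := IsHomLift.of_fac 𝒴.p f h rfl (G.w_obj a) (by simp [f])
  obtain ⟨a₁, φ, hφ⟩ := exists_lift' h𝒳 (x := a) rfl f
  have := sc_of_fibGrpd h𝒴 f (G.toFunctor.map φ)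
  obtain ⟨θ, ⟨hθ, hθ'⟩, -⟩ := IsStronglyCartesian.universal_property 𝒴.p f (G.toFunctor.map φ)
    (𝟙 (𝒴.p.obj b)) f (Category.id_comp f).symm h
  have : IsIso θ := isIso_of_fibGrpd h𝒴 (𝟙 (𝒴.p.obj b)) θ
  have hb : 𝒳.p.obj a₁ = 𝒴.p.obj b := IsHomLift.domain_eq 𝒳.p f φ
  obtain ⟨a₂, φ', hφ'⟩ := hiso a₁ b (asIso θ) (by rw [hb]; exact hθ)
  refine ⟨a₂, φ' ≫ φ, ?_⟩
  have : G.toFunctor.IsHomLift θ φ' := hφ'
  have h2 : G.toFunctor.IsHomLift (θ ≫ G.toFunctor.map φ) (φ' ≫ φ) := inferInstance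
  exact hθ' ▸ h2

section Inertia

variable {F : 𝒳 ⥤ᵇ 𝒴}

theorem aut_lift (x : FibCat.InertiaObj F) : 𝒳.p.IsHomLift (𝟙 (𝒳.p.obj x.pt)) x.aut.hom := by
  rw [← BasedFunctor.isHomLift_iff F, x.map_aut]
  infer_instance

theorem inertia_isHomLift_iff {x y : (FibCat.inertia F).obj} {R S : C} (f : R ⟶ S) (φ : x ⟶ y) :
    (FibCat.inertia F).p.IsHomLift f φ ↔ 𝒳.p.IsHomLift f φ.hom := by
  constructor
  · intro h
    subst_hom_lift (FibCat.inertia F).p f φ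
    exact IsHomLift.map 𝒳.p φ.hom
  · intro h
    subst_hom_lift 𝒳.p f φ.hom
    exact IsHomLift.map (FibCat.inertia F).p φ

theorem inertia_sc {x y : (FibCat.inertia F).obj} {R S : C} (f : R ⟶ S) (φ : y ⟶ x)
    [𝒳.p.IsStronglyCartesian f φ.hom] : (FibCat.inertia F).p.IsStronglyCartesian f φ := by
  have : (FibCat.inertia F).p.IsHomLift f φ := (inertia_isHomLift_iff f φ).2 inferInstance
  refine ⟨fun {z} g ψ hψ => ?_⟩
  have hψ' := (inertia_isHomLift_iff (g ≫ f) ψ).1 hψ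
  obtain ⟨χ, ⟨hχ, hχ'⟩, hu⟩ := IsStronglyCartesian.universal_property 𝒳.p f φ.hom g (g ≫ f) rfl ψ.hom
  have hR : 𝒳.p.obj y.pt = R := IsHomLift.domain_eq 𝒳.p f φ.hom
  subst hR
  have := aut_lift y
  have := aut_lift z
  have h1 : 𝒳.p.IsHomLift g (χ ≫ y.aut.hom) := inferInstance
  have h2 : 𝒳.p.IsHomLift g (z.aut.hom ≫ χ) :=
    @IsHomLift.comp_lift_id_left' _ _ _ _ 𝒳.p _ _ _ (𝒳.p.obj z.pt) z.aut.hom (aut_lift z) _ _ g χ hχ
  have hc : z.aut.hom ≫ χ = χ ≫ y.aut.hom := by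
    apply IsStronglyCartesian.ext 𝒳.p f φ.hom g
    rw [Category.assoc, Category.assoc, hχ', φ.comm, ← Category.assoc, hχ', ψ.comm]
  refine ⟨⟨χ, hc⟩, ⟨(inertia_isHomLift_iff _ _).2 hχ, FibCat.InertiaObj.hom_ext hχ'⟩, ?_⟩
  rintro ω ⟨hω, hω'⟩
  exact FibCat.InertiaObj.hom_ext
    (hu ω.hom ⟨(inertia_isHomLift_iff _ _).1 hω, congrArg (fun t => FibCat.InertiaObj.Hom.hom t) hω'⟩)

theorem inertia_exists_sc [𝒳.p.IsFibered] (hF : FibCat.PreservesStronglyCartesian F)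
    (x : (FibCat.inertia F).obj) {R : C} (f : R ⟶ 𝒳.p.obj x.pt) :
    ∃ (y : (FibCat.inertia F).obj) (φ : y ⟶ x), (FibCat.inertia F).p.IsStronglyCartesian f φ := by
  obtain ⟨y, φ, hφ⟩ := exists_sc_lift (p := 𝒳.p) (x := x.pt) rfl f
  have := aut_lift x
  obtain ⟨β, ⟨hβ, hβ'⟩, -⟩ := IsStronglyCartesian.universal_property 𝒳.p f φ (𝟙 R) f
    (Category.id_comp f).symm (φ ≫ x.aut.hom)
  obtain ⟨γ, ⟨hγ, hγ'⟩, -⟩ := IsStronglyCartesian.universal_property 𝒳.p f φ (𝟙 R) f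
    (Category.id_comp f).symm (φ ≫ x.aut.inv)
  have hR : 𝒳.p.obj y = R := IsHomLift.domain_eq 𝒳.p f φ
  subst hR
  have : 𝒳.p.IsHomLift (𝟙 (𝒳.p.obj y)) (𝟙 y) := inferInstance
  let e : y ≅ y :=
    { hom := β
      inv := γ
      hom_inv_id := IsStronglyCartesian.ext 𝒳.p f φ (𝟙 (𝒳.p.obj y)) (by
        rw [Category.assoc, hγ', ← Category.assoc, hβ', Category.assoc, Iso.hom_inv_id,
          Category.comp_id, Category.id_comp])
      inv_hom_id := IsStronglyCartesian.ext 𝒳.p f φ (𝟙 (𝒳.p.obj y)) (by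
        rw [Category.assoc, hβ', ← Category.assoc, hγ', Category.assoc, Iso.inv_hom_id,
          Category.comp_id, Category.id_comp]) }
  have := hF f φ hφ
  have he : F.toFunctor.map β = 𝟙 _ := IsStronglyCartesian.ext 𝒴.p f (F.toFunctor.map φ)
    (𝟙 (𝒳.p.obj y))
    (by rw [← Functor.map_comp, hβ', Functor.map_comp, x.map_aut, Category.comp_id, Category.id_comp])
  let Y : (FibCat.inertia F).obj := ⟨y, e, he⟩
  let Φ : Y ⟶ x := ⟨φ, hβ'⟩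
  have : 𝒳.p.IsStronglyCartesian f Φ.hom := hφ
  exact ⟨Y, Φ, inertia_sc f Φ⟩

end Inertia

end Groth.Agent.FibC
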