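import Groth.Prelude.Def_FibCat2
import Groth.Prelude.Def_W4stkcategoriessitesFib

/-!
Basic lemmas on categories over a base: categories fibred in groupoids, equivalences over the base.
-/

set_option backward.isDefEq.respectTransparency false

universe v₄ u₄ v₃ u₃ v₂ u₂ v u

open CategoryTheory CategoryTheory.Functor

namespace Groth.Agent.FibC

variable {C : Type u} [Category.{v} C]

section Functor

variable {𝒳 : Type u₂} [Category.{v₂} 𝒳] {p : 𝒳 ⥤ C}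

/-- In a category fibred in groupoids every lift is strongly cartesian. -/
theorem sc_of_fibGrpd (h : FibCat.IsFibGrpd p) {R S : C} {a b : 𝒳} (f : R ⟶ S) (φ : a ⟶ b)
    [p.IsHomLift f φ] : p.IsStronglyCartesian f φ := by
  subst_hom_lift p f φ
  exact h.isStronglyCartesian φ

theorem exists_lift' (h : FibCat.IsFibGrpd p) {R S : C} {x : 𝒳} (hx : p.obj x = S) (f : R ⟶ S) :
    ∃ (y : 𝒳) (φ : y ⟶ x), p.IsHomLift f φ := by
  subst hx
  exact h.exists_lift f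

theorem fibGrpd_isFibered (h : FibCat.IsFibGrpd p) : p.IsFibered := by
  refine IsFibered.of_exists_isStronglyCartesian (fun a R f => ?_)
  obtain ⟨y, φ, hφ⟩ := h.exists_lift f
  exact ⟨y, φ, sc_of_fibGrpd h f φ⟩

theorem exists_sc_lift [p.IsFibered] {R S : C} {x : 𝒳} (hx : p.obj x = S) (f : R ⟶ S) :
    ∃ (y : 𝒳) (φ : y ⟶ x), p.IsStronglyCartesian f φ :=
  ⟨_, IsPreFibered.pullbackMap hx f, inferInstance⟩

theorem isIso_of_fibGrpd (h : FibCat.IsFibGrpd p) {R S : C} {a b : 𝒳} (f : R ⟶ S) (φ : a ⟶ b)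
    [p.IsHomLift f φ] [IsIso f] : IsIso φ :=
  have := sc_of_fibGrpd h f φ
  IsStronglyCartesian.isIso_of_base_isIso p f φ

theorem fiber_isIso (h : FibCat.IsFibGrpd p) {U : C} {a b : p.Fiber U} (φ : a ⟶ b) : IsIso φ := by
  have := φ.2
  have : IsIso φ.1 := isIso_of_fibGrpd h (𝟙 U) φ.1
  exact ⟨⟨inv φ.1, inferInstance⟩, Subtype.ext (IsIso.hom_inv_id φ.1),
    Subtype.ext (IsIso.inv_hom_id φ.1)⟩

theorem fiber_isGroupoid (h : FibCat.IsFibGrpd p) (U : C) : IsGroupoid (p.Fiber U) :=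
  ⟨fun φ => fiber_isIso h φ⟩

/-- An isomorphism in a fibre from an isomorphism over an identity. -/
def fiberIso {U : C} (a b : p.Fiber U) (e : a.1 ≅ b.1) (he : p.IsHomLift (𝟙 U) e.hom) : a ≅ b where
  hom := ⟨e.hom, he⟩
  inv := ⟨e.inv, inferInstance⟩
  hom_inv_id := Subtype.ext e.hom_inv_id
  inv_hom_id := Subtype.ext e.inv_hom_id

theorem isStronglyCartesian_self_iff {R S : C} {a b : 𝒳} (f : R ⟶ S) (φ : a ⟶ b) [p.IsHomLift f φ] :
    p.IsStronglyCartesian f φ ↔ p.IsStronglyCartesian (p.map φ) φ := by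
  subst_hom_lift p f φ
  rfl

theorem isCartesian_self_iff {R S : C} {a b : 𝒳} (f : R ⟶ S) (φ : a ⟶ b) [p.IsHomLift f φ] :
    p.IsCartesian f φ ↔ p.IsCartesian (p.map φ) φ := by
  subst_hom_lift p f φ
  rfl

theorem isHomLift_map_iff {R S : C} {a b : 𝒳} (f : R ⟶ S) (φ : a ⟶ b) :
    p.IsHomLift f φ ↔
      ∃ (ha : p.obj a = R) (hb : p.obj b = S), f = eqToHom ha.symm ≫ p.map φ ≫ eqToHom hb := by
  constructor
  · intro h
    exact ⟨IsHomLift.domain_eq p f φ, IsHomLift.codomain_eq p f φ, IsHomLift.fac p f φ⟩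
  · rintro ⟨ha, hb, h⟩
    exact IsHomLift.of_fac p f φ ha hb h

/-- Cancellation: if `χ ≫ φ` lifts `g ≫ f`, `χ` and `φ` lift something and `φ` lifts `f` ... -/
theorem map_eq_of_isHomLift {R S : C} {a b : 𝒳} (f f' : R ⟶ S) (φ : a ⟶ b) [p.IsHomLift f φ]
    [p.IsHomLift f' φ] : f = f' := by
  rw [IsHomLift.fac p f φ, IsHomLift.fac p f' φ]

end Functor

section Based

variable {𝒳 : BasedCategory.{v₂, u₂} C} {𝒴 : BasedCategory.{v₃, u₃} C} {𝒵 : BasedCategory.{v₄, u₄} C}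

theorem w_map (F : 𝒳 ⥤ᵇ 𝒴) {a b : 𝒳.obj} (φ : a ⟶ b) :
    𝒴.p.map (F.toFunctor.map φ) =
      eqToHom (F.w_obj a) ≫ 𝒳.p.map φ ≫ eqToHom (F.w_obj b).symm :=
  Functor.congr_hom F.w φ

/-- Components of a based natural isomorphism, as isomorphisms. -/
def appIso {F G : 𝒳 ⥤ᵇ 𝒴} (e : F ≅ G) (a : 𝒳.obj) :
    F.toFunctor.obj a ≅ G.toFunctor.obj a :=
  ((BasedNatTrans.forgetful 𝒳 𝒴).mapIso e).app a

@[simp] theorem appIso_hom {F G : 𝒳 ⥤ᵇ 𝒴} (e : F ≅ G) (a : 𝒳.obj) :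
    (appIso e a).hom = e.hom.toNatTrans.app a := rfl

@[simp] theorem appIso_inv {F G : 𝒳 ⥤ᵇ 𝒴} (e : F ≅ G) (a : 𝒳.obj) :
    (appIso e a).inv = e.inv.toNatTrans.app a := rfl

theorem appIso_lift {F G : 𝒳 ⥤ᵇ 𝒴} (e : F ≅ G) {a : 𝒳.obj} {S : C} (ha : 𝒳.p.obj a = S) :
    𝒴.p.IsHomLift (𝟙 S) (appIso e a).hom :=
  BasedNatTrans.isHomLift e.hom ha

theorem isEquivalence_of_isEquivOver {F : 𝒳 ⥤ᵇ 𝒴} (hF : FibCat.IsEquivOver F) :
    F.toFunctor.IsEquivalence := by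
  obtain ⟨G, ⟨η⟩, ⟨ε⟩⟩ := hF
  exact Functor.IsEquivalence.mk' G.toFunctor ((BasedNatTrans.forgetful _ _).mapIso η).symm
    ((BasedNatTrans.forgetful _ _).mapIso ε)

theorem essSurjOver_of_isEquivOver {F : 𝒳 ⥤ᵇ 𝒴} (hF : FibCat.IsEquivOver F) (η : 𝒴.obj) :
    ∃ (ξ : 𝒳.obj) (e : F.toFunctor.obj ξ ≅ η), 𝒴.p.IsHomLift (𝟙 (𝒴.p.obj η)) e.hom := by
  obtain ⟨G, -, ⟨ε⟩⟩ := hF
  exact ⟨G.toFunctor.obj η, appIso ε η, appIso_lift ε rfl⟩

section inverse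

variable (F : 𝒳 ⥤ᵇ 𝒴) [F.toFunctor.Full] [F.toFunctor.Faithful]

omit [F.toFunctor.Full] [F.toFunctor.Faithful] in
private theorem inv_w_obj (ξ : 𝒳.obj) (η : 𝒴.obj) (e : F.toFunctor.obj ξ ≅ η)
    (he : 𝒴.p.IsHomLift (𝟙 (𝒴.p.obj η)) e.hom) : 𝒳.p.obj ξ = 𝒴.p.obj η :=
  (F.w_obj ξ).symm.trans (IsHomLift.domain_eq 𝒴.p (𝟙 (𝒴.p.obj η)) e.hom)

/-- A fully faithful based functor which is essentially surjective over the identities is an
equivalence over the base. -/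
theorem isEquivOver_of_fullyFaithful
    (h : ∀ η : 𝒴.obj, ∃ (ξ : 𝒳.obj) (e : F.toFunctor.obj ξ ≅ η),
      𝒴.p.IsHomLift (𝟙 (𝒴.p.obj η)) e.hom) : FibCat.IsEquivOver F := by
  choose ξ e he using h
  let G₀ : 𝒴.obj ⥤ 𝒳.obj :=
    { obj := ξ
      map := fun {a b} f => F.toFunctor.preimage ((e a).hom ≫ f ≫ (e b).inv)
      map_id := fun a => F.toFunctor.map_injective (by simp)
      map_comp := fun {a b c} f g => F.toFunctor.map_injective (by simp) }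
  have hobj : ∀ a, 𝒳.p.obj (ξ a) = 𝒴.p.obj a := fun a => inv_w_obj F (ξ a) a (e a) (he a)
  have hlift : ∀ {a b : 𝒴.obj} (f : a ⟶ b), 𝒳.p.IsHomLift (𝒴.p.map f) (G₀.map f) := by
    intro a b f
    rw [← BasedFunctor.isHomLift_iff F]
    simp only [G₀, Functor.map_preimage]
    have := he a
    have := he b
    infer_instance
  let G : 𝒴 ⥤ᵇ 𝒳 :=
    { toFunctor := G₀
      w := Functor.ext hobj (fun a b f => by
        have := hlift f
        exact IsHomLift.fac' 𝒳.p (𝒴.p.map f) (G₀.map f)) }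
  refine ⟨G, ⟨BasedNatIso.mkNatIso (NatIso.ofComponents
      (fun a => F.toFunctor.preimageIso (e (F.toFunctor.obj a))) ?_) ?_⟩,
    ⟨BasedNatIso.mkNatIso (NatIso.ofComponents (fun a => e a) ?_) ?_⟩⟩
  · intro a b f
    apply F.toFunctor.map_injective
    simp [G, G₀, BasedFunctor.comp, BasedFunctor.id]
  · intro a
    rw [← BasedFunctor.isHomLift_iff F]
    have := he (F.toFunctor.obj a)
    simp only [NatIso.ofComponents_hom_app, Functor.preimageIso_hom, Functor.map_preimage]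
    rw [← F.w_obj a]
    exact this
  · intro a b f
    simp [G, G₀, BasedFunctor.comp, BasedFunctor.id]
  · exact he

end inverse

theorem isEquivOver_iff (F : 𝒳 ⥤ᵇ 𝒴) :
    FibCat.IsEquivOver F ↔ (F.toFunctor.Full ∧ F.toFunctor.Faithful) ∧
      ∀ η : 𝒴.obj, ∃ (ξ : 𝒳.obj) (e : F.toFunctor.obj ξ ≅ η),
        𝒴.p.IsHomLift (𝟙 (𝒴.p.obj η)) e.hom := by
  constructor
  · intro h
    have := isEquivalence_of_isEquivOver h
    exact ⟨⟨inferInstance, inferInstance⟩, essSurjOver_of_isEquivOver h⟩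
  · rintro ⟨⟨_, _⟩, h⟩
    exact isEquivOver_of_fullyFaithful F h

theorem full_of_isEquivOver {F : 𝒳 ⥤ᵇ 𝒴} (hF : FibCat.IsEquivOver F) : F.toFunctor.Full :=
  have := isEquivalence_of_isEquivOver hF
  inferInstance

theorem faithful_of_isEquivOver {F : 𝒳 ⥤ᵇ 𝒴} (hF : FibCat.IsEquivOver F) : F.toFunctor.Faithful :=
  have := isEquivalence_of_isEquivOver hF
  inferInstance

theorem isEquivOver_id : FibCat.IsEquivOver (BasedFunctor.id 𝒳) :=
  ⟨BasedFunctor.id 𝒳, ⟨Iso.refl _⟩, ⟨Iso.refl _⟩⟩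

theorem isEquivOver_comp {F : 𝒳 ⥤ᵇ 𝒴} {G : 𝒴 ⥤ᵇ 𝒵} (hF : FibCat.IsEquivOver F)
    (hG : FibCat.IsEquivOver G) : FibCat.IsEquivOver (BasedFunctor.comp F G) := by
  have := isEquivalence_of_isEquivOver hF
  have := isEquivalence_of_isEquivOver hG
  rw [isEquivOver_iff]
  refine ⟨⟨inferInstanceAs (F.toFunctor ⋙ G.toFunctor).Full,
    inferInstanceAs (F.toFunctor ⋙ G.toFunctor).Faithful⟩, fun z => ?_⟩
  obtain ⟨y, e, he⟩ := essSurjOver_of_isEquivOver hG z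
  obtain ⟨x, e', he'⟩ := essSurjOver_of_isEquivOver hF y
  refine ⟨x, G.toFunctor.mapIso e' ≪≫ e, ?_⟩
  have h : 𝒴.p.obj y = 𝒵.p.obj z :=
    (G.w_obj y).symm.trans (IsHomLift.domain_eq 𝒵.p (𝟙 (𝒵.p.obj z)) e.hom)
  rw [h] at he'
  exact IsHomLift.comp_of_lift_id 𝒵.p _ (G.toFunctor.map e'.hom) e.hom

/-- Strongly cartesian morphisms are reflected by a fully faithful based functor. -/
theorem sc_of_map_sc (F : 𝒳 ⥤ᵇ 𝒴) [F.toFunctor.Full] [F.toFunctor.Faithful] {R S : C}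
    (f : R ⟶ S) {a b : 𝒳.obj} (φ : a ⟶ b) [𝒴.p.IsStronglyCartesian f (F.toFunctor.map φ)] :
    𝒳.p.IsStronglyCartesian f φ := by
  have : 𝒳.p.IsHomLift f φ := BasedFunctor.isHomLift_map F f φ
  refine ⟨fun {a'} g φ' hφ' => ?_⟩
  have h1 : 𝒴.p.IsHomLift (g ≫ f) (F.toFunctor.map φ') := inferInstance
  obtain ⟨χ, ⟨hχ, hχ'⟩, huniq⟩ :=
    IsStronglyCartesian.universal_property 𝒴.p f (F.toFunctor.map φ) g (g ≫ f) rfl (F.toFunctor.map φ')
  refine ⟨F.toFunctor.preimage χ, ⟨?_, ?_⟩, ?_⟩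
  · rw [← BasedFunctor.isHomLift_iff F]
    simpa using hχ
  · exact F.toFunctor.map_injective (by simpa using hχ')
  · rintro ψ ⟨hψ, hψ'⟩
    apply F.toFunctor.map_injective
    rw [Functor.map_preimage]
    refine huniq _ ⟨inferInstance, ?_⟩
    rw [← hψ', Functor.map_comp]

theorem cartesian_of_map_cartesian (F : 𝒳 ⥤ᵇ 𝒴) [F.toFunctor.Full] [F.toFunctor.Faithful] {R S : C}
    (f : R ⟶ S) {a b : 𝒳.obj} (φ : a ⟶ b) [𝒴.p.IsCartesian f (F.toFunctor.map φ)] :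
    𝒳.p.IsCartesian f φ := by
  have : 𝒳.p.IsHomLift f φ := BasedFunctor.isHomLift_map F f φ
  refine ⟨fun {a'} φ' hφ' => ?_⟩
  obtain ⟨χ, ⟨hχ, hχ'⟩, huniq⟩ :=
    IsCartesian.universal_property (p := 𝒴.p) (f := f) (φ := F.toFunctor.map φ) (F.toFunctor.map φ')
  refine ⟨F.toFunctor.preimage χ, ⟨?_, ?_⟩, ?_⟩
  · rw [← BasedFunctor.isHomLift_iff F]
    simpa using hχ
  · exact F.toFunctor.map_injective (by simpa using hχ')
  · rintro ψ ⟨hψ, hψ'⟩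
    apply F.toFunctor.map_injective
    rw [Functor.map_preimage]
    refine huniq _ ⟨inferInstance, ?_⟩
    rw [← hψ', Functor.map_comp]

theorem map_cartesian_of_isEquivOver {F : 𝒳 ⥤ᵇ 𝒴} (hF : FibCat.IsEquivOver F) {R S : C}
    (f : R ⟶ S) {a b : 𝒳.obj} (φ : a ⟶ b) [𝒳.p.IsCartesian f φ] :
    𝒴.p.IsCartesian f (F.toFunctor.map φ) := by
  have := isEquivalence_of_isEquivOver hF
  refine ⟨fun {y} φ' hφ' => ?_⟩
  obtain ⟨x, e, he⟩ := essSurjOver_of_isEquivOver hF y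
  have hy : 𝒴.p.obj y = R := IsHomLift.domain_eq 𝒴.p f φ'
  subst hy
  have : 𝒳.p.IsHomLift f (F.toFunctor.preimage (e.hom ≫ φ')) := by
    rw [← BasedFunctor.isHomLift_iff F, Functor.map_preimage]
    infer_instance
  obtain ⟨χ, ⟨hχ, hχ'⟩, huniq⟩ := IsCartesian.universal_property (p := 𝒳.p) (f := f) (φ := φ)
    (F.toFunctor.preimage (e.hom ≫ φ'))
  refine ⟨e.inv ≫ F.toFunctor.map χ, ⟨inferInstance, ?_⟩, ?_⟩
  · rw [Category.assoc, ← Functor.map_comp, hχ', Functor.map_preimage, Iso.inv_hom_id_assoc]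
  · rintro ψ ⟨hψ, hψ'⟩
    have := huniq (F.toFunctor.preimage (e.hom ≫ ψ))
      ⟨by rw [← BasedFunctor.isHomLift_iff F, Functor.map_preimage]; infer_instance,
       F.toFunctor.map_injective (by simp [hψ'])⟩
    rw [← this]
    simp

theorem map_sc_of_isEquivOver {F : 𝒳 ⥤ᵇ 𝒴} (hF : FibCat.IsEquivOver F) {R S : C}
    (f : R ⟶ S) {a b : 𝒳.obj} (φ : a ⟶ b) [𝒳.p.IsStronglyCartesian f φ] :
    𝒴.p.IsStronglyCartesian f (F.toFunctor.map φ) := by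
  have := isEquivalence_of_isEquivOver hF
  refine ⟨fun {y} g φ' hφ' => ?_⟩
  obtain ⟨x, e, he⟩ := essSurjOver_of_isEquivOver hF y
  have : 𝒳.p.IsHomLift (g ≫ f) (F.toFunctor.preimage (e.hom ≫ φ')) := by
    rw [← BasedFunctor.isHomLift_iff F, Functor.map_preimage]
    infer_instance
  obtain ⟨χ, ⟨hχ, hχ'⟩, huniq⟩ := IsStronglyCartesian.universal_property 𝒳.p f φ g _ rfl
    (F.toFunctor.preimage (e.hom ≫ φ'))
  refine ⟨e.inv ≫ F.toFunctor.map χ, ⟨inferInstance, ?_⟩, ?_⟩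
  · rw [Category.assoc, ← Functor.map_comp, hχ', Functor.map_preimage, Iso.inv_hom_id_assoc]
  · rintro ψ ⟨hψ, hψ'⟩
    have := huniq (F.toFunctor.preimage (e.hom ≫ ψ))
      ⟨by rw [← BasedFunctor.isHomLift_iff F, Functor.map_preimage]; infer_instance,
       F.toFunctor.map_injective (by simp [hψ'])⟩
    rw [← this]
    simp

theorem fibGrpd_of_equivOver {F : 𝒳 ⥤ᵇ 𝒴} (hF : FibCat.IsEquivOver F) (h : FibCat.IsFibGrpd 𝒳.p) :
    FibCat.IsFibGrpd 𝒴.p := by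
  have := isEquivalence_of_isEquivOver hF
  constructor
  · intro y V f
    obtain ⟨x, e, he⟩ := essSurjOver_of_isEquivOver hF y
    have hx : 𝒳.p.obj x = 𝒴.p.obj y :=
      (F.w_obj x).symm.trans (IsHomLift.domain_eq 𝒴.p (𝟙 (𝒴.p.obj y)) e.hom)
    obtain ⟨x', φ, hφ⟩ := exists_lift' h hx f
    exact ⟨_, F.toFunctor.map φ ≫ e.hom, inferInstance⟩
  · intro y' y φ
    obtain ⟨x, e, he⟩ := essSurjOver_of_isEquivOver hF y
    obtain ⟨x', e', he'⟩ := essSurjOver_of_isEquivOver hF y'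
    have hψ : 𝒳.p.IsHomLift (𝒴.p.map φ) (F.toFunctor.preimage (e'.hom ≫ φ ≫ e.inv)) := by
      rw [← BasedFunctor.isHomLift_iff F, Functor.map_preimage]
      infer_instance
    have := sc_of_fibGrpd h (𝒴.p.map φ) (F.toFunctor.preimage (e'.hom ≫ φ ≫ e.inv))
    have h1 := map_sc_of_isEquivOver hF (𝒴.p.map φ) (F.toFunctor.preimage (e'.hom ≫ φ ≫ e.inv))
    rw [Functor.map_preimage] at h1
    have : 𝒴.p.IsStronglyCartesian (𝟙 (𝒴.p.obj y')) e'.inv := inferInstance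
    have : 𝒴.p.IsStronglyCartesian (𝟙 (𝒴.p.obj y)) e.hom := inferInstance
    have h2 : 𝒴.p.IsStronglyCartesian (𝟙 _ ≫ 𝒴.p.map φ ≫ 𝟙 _)
        (e'.inv ≫ (e'.hom ≫ φ ≫ e.inv) ≫ e.hom) := inferInstance
    simpa using h2

end Based

end Groth.Agent.FibC
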