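import Groth.Prelude.Def_FibClv
import Groth.Agent.FibC.Basic

/-!
Lemmas on cleavages.
-/

set_option backward.isDefEq.respectTransparency false
set_option backward.isDefEq.respectTransparency.types false

universe v₁ v₂ u₁ u₂

open CategoryTheory CategoryTheory.Functor

namespace Groth.Agent.FibC

variable {𝒮 : Type u₁} [Category.{v₁} 𝒮] {𝒳 : Type u₂} [Category.{v₂} 𝒳] {p : 𝒳 ⥤ 𝒮}
  (K : FibCat.Cleavage p)

theorem congr_app_lift {R S : 𝒮} {f f' : R ⟶ S} (h : f = f') (a : p.Fiber S) :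
    ((Fiber.fiberInclusion.map ((K.inverseImageCongr h).hom.app a) : K.obj a.2 f ⟶ K.obj a.2 f')) ≫
      K.lift a.2 f' = K.lift a.2 f := by
  subst h
  show (𝟙 (K.obj a.2 f)) ≫ K.lift a.2 f = K.lift a.2 f
  simp

theorem comp_app_lift {R S T : 𝒮} (f : T ⟶ S) (g : R ⟶ T) (a : p.Fiber S) :
    Fiber.fiberInclusion.map ((K.comp f g).app a) ≫ K.lift a.2 (g ≫ f) =
      K.lift (K.obj_proj a.2 f) g ≫ K.lift a.2 f := by
  simp

theorem inverseImage_map_lift {R S : 𝒮} (f : R ⟶ S) {a b : p.Fiber S} (φ : a ⟶ b) :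
    Fiber.fiberInclusion.map ((K.inverseImage f).map φ) ≫ K.lift b.2 f =
      K.lift a.2 f ≫ Fiber.fiberInclusion.map φ := by
  simp

/-- Morphisms into a chosen inverse image in a fibre are determined by their composite with the lift. -/
theorem fiber_hom_ext_lift {R S : 𝒮} (f : R ⟶ S) {a : p.Fiber S} {x : p.Fiber R}
    {φ ψ : x ⟶ (K.inverseImage f).obj a}
    (h : Fiber.fiberInclusion.map φ ≫ K.lift a.2 f = Fiber.fiberInclusion.map ψ ≫ K.lift a.2 f) :
    φ = ψ := by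
  apply Fiber.hom_ext
  have := φ.2
  have := ψ.2
  exact IsCartesian.ext p f (K.lift a.2 f) φ.1 ψ.1 h

end Groth.Agent.FibC
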