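import Groth.Agent.FibC.Basic
import Mathlib.CategoryTheory.Comma.Basic
import Mathlib.CategoryTheory.Adjunction.Basic

/-!
Factorization of a morphism of fibred categories.
-/

set_option backward.isDefEq.respectTransparency false
set_option backward.isDefEq.respectTransparency.types false
set_option autoImplicit false

universe v u

open CategoryTheory CategoryTheory.Functor

namespace Groth.Agent.FibC.Factor

variable {C : Type u} [Category.{v} C] {𝒳 𝒴 : BasedCategory.{v, max u v} C} (F : 𝒳 ⥤ᵇ 𝒴)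

def P : ObjectProperty (Comma (𝟭 𝒴.obj) F.toFunctor) :=
  fun z => 𝒴.p.IsHomLift (𝟙 (𝒳.p.obj z.right)) z.hom

abbrev Z : BasedCategory.{v, max u v} C where
  obj := (P F).FullSubcategory
  p := (P F).ι ⋙ Comma.snd _ _ ⋙ 𝒳.p

variable {F}

theorem hom_lift (z : (Z F).obj) :
    𝒴.p.IsHomLift (𝟙 (𝒳.p.obj z.obj.right)) z.obj.hom := z.property

theorem left_obj (z : (Z F).obj) : 𝒴.p.obj z.obj.left = 𝒳.p.obj z.obj.right :=
  have := hom_lift z
  IsHomLift.domain_eq 𝒴.p (𝟙 (𝒳.p.obj z.obj.right)) z.obj.hom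

theorem left_lift {z z' : (Z F).obj} (m : z ⟶ z') {R S : C} (f : R ⟶ S)
    [hm : 𝒳.p.IsHomLift f m.hom.right] : 𝒴.p.IsHomLift f m.hom.left := by
  subst_hom_lift 𝒳.p f m.hom.right
  have h1 := hom_lift z
  have h2 := hom_lift z'
  have w : m.hom.left ≫ z'.obj.hom = z.obj.hom ≫ F.toFunctor.map m.hom.right := m.hom.w
  have l1 := IsHomLift.fac' 𝒴.p (𝟙 (𝒳.p.obj z.obj.right)) z.obj.hom
  have l2 := IsHomLift.fac' 𝒴.p (𝟙 (𝒳.p.obj z'.obj.right)) z'.obj.hom
  have hd : 𝒴.p.obj z.obj.left = 𝒳.p.obj z.obj.right :=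
    IsHomLift.domain_eq 𝒴.p (𝟙 (𝒳.p.obj z.obj.right)) z.obj.hom
  have hd' : 𝒴.p.obj z'.obj.left = 𝒳.p.obj z'.obj.right :=
    IsHomLift.domain_eq 𝒴.p (𝟙 (𝒳.p.obj z'.obj.right)) z'.obj.hom
  refine IsHomLift.of_fac' _ _ _ hd hd' ?_
  have e := congrArg 𝒴.p.map w
  erw [Functor.map_comp, Functor.map_comp, l1, l2, w_map F m.hom.right] at e
  rw [← cancel_mono (eqToHom hd'), ← cancel_mono (eqToHom (F.w_obj z'.obj.right).symm)]
  simpa using e

theorem lift_iff {z z' : (Z F).obj} (m : z ⟶ z') {R S : C} (f : R ⟶ S) :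
    (Z F).p.IsHomLift f m ↔ 𝒳.p.IsHomLift f m.hom.right := by
  constructor
  · intro h
    exact IsHomLift.of_fac' _ _ _ (IsHomLift.domain_eq (Z F).p f m)
      (IsHomLift.codomain_eq (Z F).p f m) (IsHomLift.fac' (Z F).p f m)
  · intro h
    exact IsHomLift.of_fac' _ _ _ (IsHomLift.domain_eq 𝒳.p f m.hom.right)
      (IsHomLift.codomain_eq 𝒳.p f m.hom.right) (IsHomLift.fac' 𝒳.p f m.hom.right)

/-- A morphism of `Z F` with strongly cartesian components is strongly cartesian. -/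
theorem sc_of_comp (hF : FibCat.PreservesStronglyCartesian F) {z z' : (Z F).obj} (m : z ⟶ z')
    {R S : C} (f : R ⟶ S) [h₁ : 𝒳.p.IsStronglyCartesian f m.hom.right]
    [h₂ : 𝒴.p.IsStronglyCartesian f m.hom.left] : (Z F).p.IsStronglyCartesian f m := by
  have hl : (Z F).p.IsHomLift f m := (lift_iff m f).2 inferInstance
  have := hF f m.hom.right h₁
  refine ⟨fun {w} g n hn => ?_⟩
  have := (lift_iff n (g ≫ f)).1 hn
  have := left_lift n (g ≫ f)
  obtain ⟨a, ⟨ha, ha'⟩, hua⟩ :=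
    IsStronglyCartesian.universal_property 𝒳.p f m.hom.right g (g ≫ f) rfl n.hom.right
  obtain ⟨b, ⟨hb, hb'⟩, hub⟩ :=
    IsStronglyCartesian.universal_property 𝒴.p f m.hom.left g (g ≫ f) rfl n.hom.left
  have := hom_lift z
  have := hom_lift w
  have hR : 𝒳.p.obj z.obj.right = R := IsHomLift.domain_eq 𝒳.p f m.hom.right
  have : 𝒴.p.IsHomLift (𝟙 R) z.obj.hom := hR ▸ hom_lift z
  have hFa : 𝒴.p.IsHomLift g (F.toFunctor.map a) := BasedFunctor.preserves_isHomLift F g a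
  have : 𝒴.p.IsHomLift g (b ≫ z.obj.hom) := inferInstance
  have : 𝒴.p.IsHomLift g (w.obj.hom ≫ F.toFunctor.map a) :=
    IsHomLift.comp_lift_id_left' 𝒴.p (𝒳.p.obj w.obj.right) w.obj.hom g (F.toFunctor.map a)
  have hw : b ≫ z.obj.hom = w.obj.hom ≫ F.toFunctor.map a := by
    apply IsStronglyCartesian.ext 𝒴.p f (F.toFunctor.map m.hom.right) g
    rw [Category.assoc, Category.assoc, ← Functor.map_comp, ha']
    erw [← m.hom.w, reassoc_of% hb']
    exact n.hom.w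
  refine ⟨ObjectProperty.homMk { left := b, right := a, w := hw },
    ⟨(lift_iff _ g).2 ha, ObjectProperty.hom_ext _ (CommaMorphism.ext hb' ha')⟩, fun χ hχ => ?_⟩
  have := (lift_iff χ g).1 hχ.1
  have e1 : χ.hom.left ≫ m.hom.left = n.hom.left := congrArg (fun k => k.hom.left) hχ.2
  have e2 : χ.hom.right ≫ m.hom.right = n.hom.right := congrArg (fun k => k.hom.right) hχ.2
  exact ObjectProperty.hom_ext _ (CommaMorphism.ext (hub _ ⟨left_lift χ g, e1⟩) (hua _ ⟨this, e2⟩))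

/-- Completing a pair of cartesian lifts to a morphism of `Z F`. -/
theorem exists_over (hF : FibCat.PreservesStronglyCartesian F) (z : (Z F).obj) {R : C} {S : C}
    (f : R ⟶ S) {x' : 𝒳.obj} (a : x' ⟶ z.obj.right) (ha : 𝒳.p.IsStronglyCartesian f a)
    {y' : 𝒴.obj} (b : y' ⟶ z.obj.left) [𝒴.p.IsHomLift f b] :
    ∃ (z' : (Z F).obj) (h : z'.obj.left = y') (h' : z'.obj.right = x') (m : z' ⟶ z),
      m.hom.left = eqToHom h ≫ b ∧ m.hom.right = eqToHom h' ≫ a := by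
  have := hF f a ha
  have hS : 𝒳.p.obj z.obj.right = S := IsHomLift.codomain_eq 𝒳.p f a
  have : 𝒴.p.IsHomLift (𝟙 S) z.obj.hom := hS ▸ hom_lift z
  obtain ⟨c, ⟨hc, hc'⟩, -⟩ := IsStronglyCartesian.universal_property 𝒴.p f (F.toFunctor.map a) (𝟙 R)
    f (Category.id_comp f).symm (b ≫ z.obj.hom)
  have hR : 𝒳.p.obj x' = R := IsHomLift.domain_eq 𝒳.p f a
  refine ⟨⟨⟨y', x', c⟩, (show 𝒴.p.IsHomLift (𝟙 (𝒳.p.obj x')) c by rw [hR]; exact hc)⟩, rfl, rfl, ObjectProperty.homMk { left := b, right := a, w := ?_ },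
    (Category.id_comp _).symm, (Category.id_comp _).symm⟩
  exact hc'.symm

theorem exists_sc [𝒳.p.IsFibered] [𝒴.p.IsFibered] (hF : FibCat.PreservesStronglyCartesian F)
    (z : (Z F).obj) {R S : C} (hz : (Z F).p.obj z = S) (f : R ⟶ S) :
    ∃ (z' : (Z F).obj) (m : z' ⟶ z), 𝒳.p.IsStronglyCartesian f m.hom.right ∧
      𝒴.p.IsStronglyCartesian f m.hom.left ∧ (Z F).p.IsStronglyCartesian f m := by
  obtain ⟨x', a, ha⟩ := exists_sc_lift (p := 𝒳.p) (x := z.obj.right) hz f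
  have hy : 𝒴.p.obj z.obj.left = S := by
    have := hom_lift z
    exact (IsHomLift.domain_eq 𝒴.p (𝟙 (𝒳.p.obj z.obj.right)) z.obj.hom).trans hz
  obtain ⟨y', b, hb⟩ := exists_sc_lift (p := 𝒴.p) (x := z.obj.left) hy f
  obtain ⟨z', h, h', m, h₁, h₂⟩ := exists_over hF z f a ha b
  subst h h'
  rw [eqToHom_refl, Category.id_comp] at h₁ h₂
  subst h₁ h₂
  exact ⟨z', m, ha, hb, sc_of_comp hF m f⟩

theorem components_sc [𝒳.p.IsFibered] [𝒴.p.IsFibered] (hF : FibCat.PreservesStronglyCartesian F)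
    {z z' : (Z F).obj} (m : z ⟶ z') {R S : C} (f : R ⟶ S) [(Z F).p.IsStronglyCartesian f m] :
    𝒳.p.IsStronglyCartesian f m.hom.right ∧ 𝒴.p.IsStronglyCartesian f m.hom.left := by
  obtain ⟨z'', n, hn1, hn2, hn⟩ := exists_sc hF z' (IsHomLift.codomain_eq (Z F).p f m) f
  let θ := IsCartesian.domainUniqueUpToIso (Z F).p f n m
  have hθ : (Z F).p.IsHomLift (𝟙 R) θ.hom := inferInstance
  have e : θ.hom ≫ n = m := IsCartesian.fac (Z F).p f n m
  have hr := (lift_iff θ.hom _).1 hθ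
  have hl := left_lift θ.hom (𝟙 R)
  let θr : z.obj.right ≅ z''.obj.right := ((P F).ι ⋙ Comma.snd _ _).mapIso θ
  let θl : z.obj.left ≅ z''.obj.left := ((P F).ι ⋙ Comma.fst _ _).mapIso θ
  have : 𝒳.p.IsHomLift (𝟙 R) θr.hom := hr
  have : 𝒴.p.IsHomLift (𝟙 R) θl.hom := hl
  have := IsStronglyCartesian.of_iso 𝒳.p (𝟙 R) θr
  have := IsStronglyCartesian.of_iso 𝒴.p (𝟙 R) θl
  have h1 : 𝒳.p.IsStronglyCartesian (𝟙 R ≫ f) (θr.hom ≫ n.hom.right) := inferInstance
  have h2 : 𝒴.p.IsStronglyCartesian (𝟙 R ≫ f) (θl.hom ≫ n.hom.left) := inferInstance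
  rw [Category.id_comp] at h1 h2
  rw [← e]
  exact ⟨h1, h2⟩

variable (F)

def u : 𝒳 ⥤ᵇ Z F where
  toFunctor :=
    { obj := fun x => ⟨⟨F.toFunctor.obj x, x, 𝟙 _⟩, IsHomLift.id (F.w_obj x)⟩
      map := fun a => ObjectProperty.homMk { left := F.toFunctor.map a, right := a }
      map_id := fun x => ObjectProperty.hom_ext _ (CommaMorphism.ext (F.toFunctor.map_id x) rfl)
      map_comp := fun a b => ObjectProperty.hom_ext _ (CommaMorphism.ext (F.toFunctor.map_comp a b) rfl) }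
  w := rfl

def v : Z F ⥤ᵇ 𝒴 where
  toFunctor := (P F).ι ⋙ Comma.fst _ _
  w := Functor.ext (fun z => left_obj z)
    fun z z' m => by
      have := left_lift m ((Z F).p.map m) (hm := IsHomLift.map 𝒳.p m.hom.right)
      exact IsHomLift.fac' 𝒴.p ((Z F).p.map m) m.hom.left

def w : Z F ⥤ᵇ 𝒳 where
  toFunctor := (P F).ι ⋙ Comma.snd _ _
  w := rfl

def adj : (w F).toFunctor ⊣ (u F).toFunctor :=
  Adjunction.mkOfHomEquiv
    { homEquiv := fun z x =>
        { toFun := fun a => ObjectProperty.homMk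
            { left := z.obj.hom ≫ F.toFunctor.map a
              right := a
              w := Category.comp_id _ }
          invFun := fun m => m.hom.right
          left_inv := fun a => rfl
          right_inv := fun m => ObjectProperty.hom_ext _
            (CommaMorphism.ext (m.hom.w.symm.trans (Category.comp_id _)) rfl) }
      homEquiv_naturality_left_symm := fun f g => rfl
      homEquiv_naturality_right := fun {z x x'} f g => ObjectProperty.hom_ext _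
        (CommaMorphism.ext (by simp [u]) rfl) }

theorem main [𝒳.p.IsFibered] [𝒴.p.IsFibered] (hF : FibCat.PreservesStronglyCartesian F) :
    ∃ (𝒳' : BasedCategory.{v, max u v} C) (u : 𝒳 ⥤ᵇ 𝒳') (v : 𝒳' ⥤ᵇ 𝒴) (w : 𝒳' ⥤ᵇ 𝒳),
      𝒳'.p.IsFibered ∧ FibCat.PreservesStronglyCartesian u ∧ FibCat.PreservesStronglyCartesian v ∧
        FibCat.PreservesStronglyCartesian w ∧ BasedFunctor.comp u v = F ∧
        u.toFunctor.Full ∧ u.toFunctor.Faithful ∧ Nonempty (w.toFunctor ⊣ u.toFunctor) ∧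
        v.toFunctor.IsFibered := by
  refine ⟨Z F, u F, v F, w F, ?_, ?_, ?_, ?_, rfl, ?_, ?_, ⟨adj F⟩, ?_⟩
  · refine IsFibered.of_exists_isStronglyCartesian fun z R f => ?_
    obtain ⟨z', m, -, -, h⟩ := exists_sc hF z rfl f
    exact ⟨z', m, h⟩
  · intro R S f a b φ hφ
    have : 𝒳.p.IsStronglyCartesian f ((u F).toFunctor.map φ).hom.right := hφ
    have : 𝒴.p.IsStronglyCartesian f ((u F).toFunctor.map φ).hom.left := hF f φ hφ
    exact sc_of_comp hF _ f
  · intro R S f a b φ hφ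
    exact (components_sc hF φ f).2
  · intro R S f a b φ hφ
    exact (components_sc hF φ f).1
  · exact ⟨fun {x y} m => ⟨m.hom.right, ObjectProperty.hom_ext _ (CommaMorphism.ext
      ((Category.comp_id _).symm.trans (m.hom.w.trans (Category.id_comp _))).symm rfl)⟩⟩
  · exact ⟨fun {x y} a b h => congrArg (fun k => k.hom.right) h⟩
  · refine IsFibered.of_exists_isStronglyCartesian fun z y' h => ?_
    change y' ⟶ z.obj.left at h
    have hy : 𝒳.p.obj z.obj.right = 𝒴.p.obj z.obj.left := by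
      have := hom_lift z
      exact (IsHomLift.domain_eq 𝒴.p (𝟙 (𝒳.p.obj z.obj.right)) z.obj.hom).symm
    obtain ⟨x', a, ha⟩ := exists_sc_lift (p := 𝒳.p) (x := z.obj.right) hy (𝒴.p.map h)
    obtain ⟨z', h₀, h', m, h₁, h₂⟩ := exists_over hF z (𝒴.p.map h) a ha h
    subst h₀ h'
    rw [eqToHom_refl, Category.id_comp] at h₁ h₂
    subst h₁ h₂
    refine ⟨z', m, ?_⟩
    have : (v F).toFunctor.IsHomLift m.hom.left m := IsHomLift.map (v F).toFunctor m
    refine ⟨fun {s} g n hn => ?_⟩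
    have hgn : g ≫ m.hom.left = n.hom.left := IsHomLift.eq_of_isHomLift (v F).toFunctor _ n
    have := hF _ m.hom.right ha
    let g₀ : 𝒳.p.obj s.obj.right ⟶ 𝒴.p.obj z'.obj.left :=
      eqToHom (left_obj s).symm ≫
        𝒴.p.map g
    have hg₀ : 𝒴.p.IsHomLift g₀ g := by
      refine IsHomLift.of_fac 𝒴.p _ _ (left_obj s) rfl ?_
      simp [g₀]
    have hnl : 𝒴.p.IsHomLift (g₀ ≫ 𝒴.p.map m.hom.left) n.hom.left := by
      rw [← hgn]; infer_instance
    have hnl' := left_lift n (𝒳.p.map n.hom.right)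
    have hs : 𝒴.p.obj z.obj.left = 𝒳.p.obj z.obj.right := hy.symm
    have : 𝒳.p.IsHomLift (g₀ ≫ 𝒴.p.map m.hom.left) n.hom.right := by
      refine IsHomLift.of_fac 𝒳.p _ _ rfl hy ?_
      rw [IsHomLift.fac 𝒴.p (g₀ ≫ 𝒴.p.map m.hom.left) n.hom.left,
        IsHomLift.fac' 𝒴.p (𝒳.p.map n.hom.right) n.hom.left]
      simp
    obtain ⟨a', ⟨ha1, ha2⟩, hua⟩ := IsStronglyCartesian.universal_property 𝒳.p (𝒴.p.map m.hom.left)
      m.hom.right g₀ (g₀ ≫ 𝒴.p.map m.hom.left) rfl n.hom.right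
    have hz' : 𝒳.p.obj z'.obj.right = 𝒴.p.obj z'.obj.left :=
      IsHomLift.domain_eq 𝒳.p (𝒴.p.map m.hom.left) m.hom.right
    have : 𝒴.p.IsHomLift (𝟙 (𝒴.p.obj z'.obj.left)) z'.obj.hom := hz' ▸ hom_lift z'
    have := hom_lift s
    have : 𝒴.p.IsHomLift g₀ (F.toFunctor.map a') := BasedFunctor.preserves_isHomLift F g₀ a'
    have : 𝒴.p.IsHomLift g₀ (g ≫ z'.obj.hom) := inferInstance
    have : 𝒴.p.IsHomLift g₀ (s.obj.hom ≫ F.toFunctor.map a') :=
      IsHomLift.comp_lift_id_left' 𝒴.p (𝒳.p.obj s.obj.right) s.obj.hom g₀ (F.toFunctor.map a')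
    have hw : g ≫ z'.obj.hom = s.obj.hom ≫ F.toFunctor.map a' := by
      apply IsStronglyCartesian.ext 𝒴.p (𝒴.p.map m.hom.left) (F.toFunctor.map m.hom.right) g₀
      rw [Category.assoc, Category.assoc, ← Functor.map_comp, ha2]
      erw [← m.hom.w, reassoc_of% hgn]
      exact n.hom.w
    let χ : s ⟶ z' := ObjectProperty.homMk { left := g, right := a', w := hw }
    refine ⟨χ, ⟨IsHomLift.map (v F).toFunctor χ,
      ObjectProperty.hom_ext _ (CommaMorphism.ext hgn ha2)⟩, fun χ' hχ => ?_⟩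
    have := hχ.1
    have e : g = χ'.hom.left := IsHomLift.eq_of_isHomLift (v F).toFunctor g χ'
    refine ObjectProperty.hom_ext _ (CommaMorphism.ext e.symm (hua _ ⟨?_, congrArg (fun k => k.hom.right) hχ.2⟩))
    have hl := left_lift χ' (𝒳.p.map χ'.hom.right)
    refine IsHomLift.of_fac 𝒳.p _ _ rfl hz' ?_
    show g₀ = _
    have : 𝒴.p.IsHomLift g₀ χ'.hom.left := e ▸ hg₀
    rw [IsHomLift.fac 𝒴.p g₀ χ'.hom.left, IsHomLift.fac' 𝒴.p (𝒳.p.map χ'.hom.right) χ'.hom.left]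
    simp

end Groth.Agent.FibC.Factor
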