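import Groth.Agent.FibC.Basic

/-!
Fibrewise criteria for functors between categories over a base.
-/

set_option backward.isDefEq.respectTransparency false

universe v₃ u₃ v₂ u₂ v u

open CategoryTheory CategoryTheory.Functor

namespace Groth.Agent.FibC

variable {C : Type u} [Category.{v} C]
variable {𝒳 : BasedCategory.{v₂, u₂} C} {𝒴 : BasedCategory.{v₃, u₃} C}

theorem fiberFunctor_faithful (G : 𝒳 ⥤ᵇ 𝒴) [G.toFunctor.Faithful] (U : C) :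
    (FibCat.fiberFunctor G U).Faithful :=
  ⟨fun {a b} φ ψ h => Subtype.ext (G.toFunctor.map_injective (congrArg Subtype.val h))⟩

theorem fiberFunctor_full (G : 𝒳 ⥤ᵇ 𝒴) [G.toFunctor.Full] (U : C) :
    (FibCat.fiberFunctor G U).Full := by
  refine ⟨fun {a b} ψ => ?_⟩
  obtain ⟨φ, hφ⟩ := G.toFunctor.map_surjective ψ.1
  have : 𝒳.p.IsHomLift (𝟙 U) φ := by
    rw [← BasedFunctor.isHomLift_iff G]
    exact hφ ▸ ψ.2
  exact ⟨⟨φ, this⟩, Subtype.ext hφ⟩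

theorem faithful_of_fiber [𝒳.p.IsFibered] (G : 𝒳 ⥤ᵇ 𝒴)
    (hG : FibCat.PreservesStronglyCartesian G)
    (h : ∀ U : C, (FibCat.fiberFunctor G U).Faithful) : G.toFunctor.Faithful := by
  refine ⟨fun {a b} φ φ' e => ?_⟩
  have h' : 𝒳.p.map φ = 𝒳.p.map φ' := by
    have h₁ := w_map G φ
    rw [e, w_map G φ'] at h₁
    rw [cancel_epi, cancel_mono] at h₁
    exact h₁.symm
  obtain ⟨c, χ, hχ⟩ := exists_sc_lift (p := 𝒳.p) (x := b) rfl (𝒳.p.map φ)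
  have : 𝒳.p.IsHomLift (𝒳.p.map φ) φ' := h' ▸ inferInstance
  obtain ⟨θ, ⟨hθ, hθ'⟩, -⟩ := IsStronglyCartesian.universal_property 𝒳.p (𝒳.p.map φ) χ
    (𝟙 (𝒳.p.obj a)) _ (Category.id_comp _).symm φ
  obtain ⟨θ', ⟨hθ₁, hθ₂⟩, -⟩ := IsStronglyCartesian.universal_property 𝒳.p (𝒳.p.map φ) χ
    (𝟙 (𝒳.p.obj a)) _ (Category.id_comp _).symm φ'
  have := hG _ χ hχ
  have hG' : G.toFunctor.map θ = G.toFunctor.map θ' :=
    IsStronglyCartesian.ext 𝒴.p (𝒳.p.map φ) (G.toFunctor.map χ) (𝟙 (𝒳.p.obj a))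
      (by rw [← Functor.map_comp, ← Functor.map_comp, hθ', hθ₂, e])
  let A : 𝒳.p.Fiber (𝒳.p.obj a) := Fiber.mk rfl
  let B : 𝒳.p.Fiber (𝒳.p.obj a) := Fiber.mk (IsHomLift.domain_eq 𝒳.p (𝒳.p.map φ) χ)
  have hθθ : θ = θ' := congrArg Subtype.val
    ((h (𝒳.p.obj a)).map_injective (X := A) (Y := B) (a₁ := ⟨θ, hθ⟩) (a₂ := ⟨θ', hθ₁⟩)
      (Subtype.ext hG'))
  rw [← hθ', ← hθ₂, hθθ]

theorem full_of_fiber [𝒳.p.IsFibered] (G : 𝒳 ⥤ᵇ 𝒴)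
    (hG : FibCat.PreservesStronglyCartesian G)
    (h : ∀ U : C, (FibCat.fiberFunctor G U).Full) : G.toFunctor.Full := by
  refine ⟨fun {a b} ψ => ?_⟩
  let f : 𝒳.p.obj a ⟶ 𝒳.p.obj b := eqToHom (G.w_obj a).symm ≫ 𝒴.p.map ψ ≫ eqToHom (G.w_obj b)
  have : 𝒴.p.IsHomLift f ψ := IsHomLift.of_fac 𝒴.p f ψ (G.w_obj a) (G.w_obj b) rfl
  obtain ⟨c, χ, hχ⟩ := exists_sc_lift (p := 𝒳.p) (x := b) rfl f
  have := hG _ χ hχ
  obtain ⟨θ, ⟨hθ, hθ'⟩, -⟩ := IsStronglyCartesian.universal_property 𝒴.p f (G.toFunctor.map χ)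
    (𝟙 (𝒳.p.obj a)) _ (Category.id_comp _).symm ψ
  let A : 𝒳.p.Fiber (𝒳.p.obj a) := Fiber.mk rfl
  let B : 𝒳.p.Fiber (𝒳.p.obj a) := Fiber.mk (IsHomLift.domain_eq 𝒳.p f χ)
  obtain ⟨φ, hφ⟩ := (h (𝒳.p.obj a)).map_surjective (X := A) (Y := B) ⟨θ, hθ⟩
  have hφ' : G.toFunctor.map φ.1 = θ := congrArg Subtype.val hφ
  exact ⟨φ.1 ≫ χ, by rw [Functor.map_comp, hφ', hθ']⟩

theorem essSurjOver_iff_fiber (G : 𝒳 ⥤ᵇ 𝒴) :
    (∀ η : 𝒴.obj, ∃ (ξ : 𝒳.obj) (e : G.toFunctor.obj ξ ≅ η),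
      𝒴.p.IsHomLift (𝟙 (𝒴.p.obj η)) e.hom) ↔ ∀ U : C, (FibCat.fiberFunctor G U).EssSurj := by
  constructor
  · refine fun h U => ⟨fun y => ?_⟩
    obtain ⟨ξ, e, he⟩ := h y.1
    rw [y.2] at he
    exact ⟨⟨ξ, (G.w_obj ξ).symm.trans (IsHomLift.domain_eq 𝒴.p (𝟙 U) e.hom)⟩,
      ⟨fiberIso _ _ e he⟩⟩
  · intro h η
    obtain ⟨ξ, ⟨e⟩⟩ := (h (𝒴.p.obj η)).mem_essImage (Fiber.mk (p := 𝒴.p) (a := η) rfl)
    exact ⟨ξ.1, Fiber.fiberInclusion.mapIso e, e.hom.2⟩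

theorem fiberFunctor_isEquivalence_of_isEquivOver {G : 𝒳 ⥤ᵇ 𝒴} (h : FibCat.IsEquivOver G)
    (U : C) : (FibCat.fiberFunctor G U).IsEquivalence := by
  have := full_of_isEquivOver h
  have := faithful_of_isEquivOver h
  exact ⟨fiberFunctor_faithful G U, fiberFunctor_full G U,
    (essSurjOver_iff_fiber G).1 (essSurjOver_of_isEquivOver h) U⟩

theorem isEquivOver_of_fiber [𝒳.p.IsFibered] (G : 𝒳 ⥤ᵇ 𝒴)
    (hG : FibCat.PreservesStronglyCartesian G)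
    (h : ∀ U : C, (FibCat.fiberFunctor G U).IsEquivalence) : FibCat.IsEquivOver G :=
  (isEquivOver_iff G).2 ⟨⟨full_of_fiber G hG fun U => (h U).full,
    faithful_of_fiber G hG fun U => (h U).faithful⟩,
    (essSurjOver_iff_fiber G).2 fun U => (h U).essSurj⟩

/-- A functor over the base whose underlying functor is an equivalence is an equivalence over the
base, provided the source is fibred. -/
theorem isEquivOver_of_isEquivalence [𝒳.p.IsFibered] (F : 𝒳 ⥤ᵇ 𝒴) [F.toFunctor.IsEquivalence] :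
    FibCat.IsEquivOver F := by
  refine isEquivOver_of_fullyFaithful F (fun η => ?_)
  let ξ := F.toFunctor.objPreimage η
  let e := F.toFunctor.objObjPreimageIso η
  let α : 𝒳.p.obj ξ ≅ 𝒴.p.obj η := eqToIso (F.w_obj ξ).symm ≪≫ 𝒴.p.mapIso e
  obtain ⟨ξ', φ, hφ⟩ := exists_sc_lift (p := 𝒳.p) (x := ξ) rfl α.inv
  have : IsIso φ := IsStronglyCartesian.isIso_of_base_isIso 𝒳.p α.inv φ
  refine ⟨ξ', F.toFunctor.mapIso (asIso φ) ≪≫ e, ?_⟩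
  have h1 : 𝒴.p.IsHomLift α.inv (F.toFunctor.map φ) := inferInstance
  have h2 : 𝒴.p.IsHomLift α.hom e.hom :=
    IsHomLift.of_fac 𝒴.p _ _ (F.w_obj ξ) rfl (by simp [α])
  have h3 : 𝒴.p.IsHomLift (α.inv ≫ α.hom) (F.toFunctor.map φ ≫ e.hom) := inferInstance
  rw [α.inv_hom_id] at h3
  exact h3

/-- The functor on fibres is determined by its compatibility with the inclusions. -/
theorem eq_fiberFunctor (G : 𝒳 ⥤ᵇ 𝒴) (U : C) (H : 𝒳.p.Fiber U ⥤ 𝒴.p.Fiber U)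
    (h : H ⋙ Fiber.fiberInclusion = Fiber.fiberInclusion ⋙ G.toFunctor) :
    H = FibCat.fiberFunctor G U := by
  refine Functor.ext (fun a => Subtype.ext (Functor.congr_obj h a)) (fun a b φ => ?_)
  apply Fiber.hom_ext
  rw [Functor.map_comp, Functor.map_comp, eqToHom_map, eqToHom_map]
  exact Functor.congr_hom h φ

theorem preservesSC_of_map {G : 𝒳 ⥤ᵇ 𝒴}
    (hG : ∀ ⦃a b : 𝒳.obj⦄ (φ : a ⟶ b), 𝒳.p.IsStronglyCartesian (𝒳.p.map φ) φ →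
      𝒴.p.IsStronglyCartesian (𝒳.p.map φ) (G.toFunctor.map φ)) :
    FibCat.PreservesStronglyCartesian G := by
  intro R S f a b φ hφ
  subst_hom_lift 𝒳.p f φ
  exact hG φ hφ

end Groth.Agent.FibC
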