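import Groth.Agent.FibC.Basic

/-!
2-fibre products over the base (`FibCat.fp`).
-/

set_option backward.isDefEq.respectTransparency false

universe v₅ u₅ v₄ u₄ v₃ u₃ v₂ u₂ v u

open CategoryTheory CategoryTheory.Functor CategoryTheory.Limits

namespace Groth.Agent.FibC

variable {C : Type u} [Category.{v} C]
variable {𝒳 : BasedCategory.{v₂, u₂} C} {𝒴 : BasedCategory.{v₃, u₃} C} {𝒮 : BasedCategory.{v₄, u₄} C}
variable {F : 𝒳 ⥤ᵇ 𝒮} {G : 𝒴 ⥤ᵇ 𝒮}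

/-- An object of `fp F G`. -/
abbrev fpMk (F : 𝒳 ⥤ᵇ 𝒮) (G : 𝒴 ⥤ᵇ 𝒮) (x : 𝒳.obj) (y : 𝒴.obj)
    (e : F.toFunctor.obj x ≅ G.toFunctor.obj y) (he : 𝒮.p.IsHomLift (𝟙 (𝒳.p.obj x)) e.hom) :
    (FibCat.fp F G).obj :=
  ⟨{ fst := x, snd := y, iso := e }, he⟩

/-- A morphism of `fp F G` from its components. -/
abbrev fpHom {x y : (FibCat.fp F G).obj} (a : x.obj.fst ⟶ y.obj.fst) (b : x.obj.snd ⟶ y.obj.snd)
    (w : F.toFunctor.map a ≫ y.obj.iso.hom = x.obj.iso.hom ≫ G.toFunctor.map b) : x ⟶ y :=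
  ObjectProperty.homMk { fst := a, snd := b, w := w }

theorem fp_hom_ext {x y : (FibCat.fp F G).obj} {φ ψ : x ⟶ y} (h₁ : φ.hom.fst = ψ.hom.fst)
    (h₂ : φ.hom.snd = ψ.hom.snd) : φ = ψ :=
  ObjectProperty.hom_ext _ (CategoricalPullback.hom_ext h₁ h₂)

@[simp] theorem fp_id_fst (x : (FibCat.fp F G).obj) : (𝟙 x : x ⟶ x).hom.fst = 𝟙 x.obj.fst := rfl
@[simp] theorem fp_id_snd (x : (FibCat.fp F G).obj) : (𝟙 x : x ⟶ x).hom.snd = 𝟙 x.obj.snd := rfl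
@[simp] theorem fp_comp_fst {x y z : (FibCat.fp F G).obj} (φ : x ⟶ y) (ψ : y ⟶ z) :
    (φ ≫ ψ).hom.fst = φ.hom.fst ≫ ψ.hom.fst := rfl
@[simp] theorem fp_comp_snd {x y z : (FibCat.fp F G).obj} (φ : x ⟶ y) (ψ : y ⟶ z) :
    (φ ≫ ψ).hom.snd = φ.hom.snd ≫ ψ.hom.snd := rfl

theorem fp_snd_proj (x : (FibCat.fp F G).obj) : 𝒴.p.obj x.obj.snd = 𝒳.p.obj x.obj.fst := by
  have : 𝒮.p.IsHomLift (𝟙 (𝒳.p.obj x.obj.fst)) x.obj.iso.hom := x.property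
  exact (G.w_obj x.obj.snd).symm.trans
    (IsHomLift.codomain_eq 𝒮.p (𝟙 (𝒳.p.obj x.obj.fst)) x.obj.iso.hom)

theorem fp_iso_lift {x : (FibCat.fp F G).obj} {R : C} (h : 𝒳.p.obj x.obj.fst = R) :
    𝒮.p.IsHomLift (𝟙 R) x.obj.iso.hom := by
  subst h; exact x.property

theorem fp_isHomLift_iff {x y : (FibCat.fp F G).obj} {R S : C} (f : R ⟶ S) (φ : x ⟶ y) :
    (FibCat.fp F G).p.IsHomLift f φ ↔ 𝒳.p.IsHomLift f φ.hom.fst := by
  constructor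
  · intro h
    subst_hom_lift (FibCat.fp F G).p f φ
    exact IsHomLift.map 𝒳.p φ.hom.fst
  · intro h
    subst_hom_lift 𝒳.p f φ.hom.fst
    exact IsHomLift.map (FibCat.fp F G).p φ

instance fp_fst_isHomLift {x y : (FibCat.fp F G).obj} {R S : C} (f : R ⟶ S) (φ : x ⟶ y)
    [h : (FibCat.fp F G).p.IsHomLift f φ] : 𝒳.p.IsHomLift f φ.hom.fst :=
  (fp_isHomLift_iff f φ).1 h

instance fp_snd_isHomLift {x y : (FibCat.fp F G).obj} {R S : C} (f : R ⟶ S) (φ : x ⟶ y)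
    [h : (FibCat.fp F G).p.IsHomLift f φ] : 𝒴.p.IsHomLift f φ.hom.snd := by
  subst_hom_lift (FibCat.fp F G).p f φ
  exact FibCat.fp_isHomLift_snd F G φ

/-- An isomorphism of `fp F G` from its components. -/
def fpIsoMk {x y : (FibCat.fp F G).obj} (a : x.obj.fst ≅ y.obj.fst) (b : x.obj.snd ≅ y.obj.snd)
    (w : F.toFunctor.map a.hom ≫ y.obj.iso.hom = x.obj.iso.hom ≫ G.toFunctor.map b.hom) : x ≅ y :=
  ObjectProperty.isoMk _ (CategoricalPullback.mkIso a b w)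

@[simp] theorem fpIsoMk_hom_fst {x y : (FibCat.fp F G).obj} (a : x.obj.fst ≅ y.obj.fst)
    (b : x.obj.snd ≅ y.obj.snd)
    (w : F.toFunctor.map a.hom ≫ y.obj.iso.hom = x.obj.iso.hom ≫ G.toFunctor.map b.hom) :
    (fpIsoMk a b w).hom.hom.fst = a.hom := rfl

@[simp] theorem fpIsoMk_hom_snd {x y : (FibCat.fp F G).obj} (a : x.obj.fst ≅ y.obj.fst)
    (b : x.obj.snd ≅ y.obj.snd)
    (w : F.toFunctor.map a.hom ≫ y.obj.iso.hom = x.obj.iso.hom ≫ G.toFunctor.map b.hom) :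
    (fpIsoMk a b w).hom.hom.snd = b.hom := rfl

/-- A morphism of a fibre product whose components are strongly cartesian is strongly cartesian,
as soon as the image of the second component is separated. -/
theorem sc_fp {x y : (FibCat.fp F G).obj} {R S : C} (f : R ⟶ S) (φ : x ⟶ y)
    [(FibCat.fp F G).p.IsHomLift f φ]
    [𝒳.p.IsStronglyCartesian f φ.hom.fst] [𝒴.p.IsStronglyCartesian f φ.hom.snd]
    (hu : ∀ {T : C} {s : 𝒮.obj} (g : T ⟶ R) (ψ ψ' : s ⟶ G.toFunctor.obj x.obj.snd)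
      [𝒮.p.IsHomLift g ψ] [𝒮.p.IsHomLift g ψ'],
      ψ ≫ G.toFunctor.map φ.hom.snd = ψ' ≫ G.toFunctor.map φ.hom.snd → ψ = ψ') :
    (FibCat.fp F G).p.IsStronglyCartesian f φ := by
  refine ⟨fun {z} g φ' hφ' => ?_⟩
  obtain ⟨χ₁, ⟨hχ₁, hχ₁'⟩, hu₁⟩ := IsStronglyCartesian.universal_property 𝒳.p f φ.hom.fst g
    (g ≫ f) rfl φ'.hom.fst
  obtain ⟨χ₂, ⟨hχ₂, hχ₂'⟩, hu₂⟩ := IsStronglyCartesian.universal_property 𝒴.p f φ.hom.snd g
    (g ≫ f) rfl φ'.hom.snd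
  have hw : F.toFunctor.map χ₁ ≫ x.obj.iso.hom = z.obj.iso.hom ≫ G.toFunctor.map χ₂ := by
    have hx := fp_iso_lift (F := F) (G := G) (x := x) (IsHomLift.domain_eq 𝒳.p f φ.hom.fst)
    have hz := fp_iso_lift (F := F) (G := G) (x := z) (IsHomLift.domain_eq 𝒳.p g χ₁)
    apply hu g
    rw [Category.assoc, Category.assoc, ← Functor.map_comp, hχ₂', ← φ.hom.w, ← Category.assoc,
      ← Functor.map_comp, hχ₁']
    exact φ'.hom.w
  refine ⟨fpHom χ₁ χ₂ hw, ⟨(fp_isHomLift_iff _ _).2 hχ₁, fp_hom_ext hχ₁' hχ₂'⟩, ?_⟩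
  rintro ψ ⟨hψ, hψ'⟩
  exact fp_hom_ext
    (hu₁ _ ⟨inferInstance, congrArg (fun t => CategoricalPullback.Hom.fst t.hom) hψ'⟩)
    (hu₂ _ ⟨inferInstance, congrArg (fun t => CategoricalPullback.Hom.snd t.hom) hψ'⟩)

/-- Lifts in a fibre product. -/
theorem exists_sc_fp (y : (FibCat.fp F G).obj) {R : C} (f : R ⟶ 𝒳.p.obj y.obj.fst)
    {x₁ : 𝒳.obj} (φ₁ : x₁ ⟶ y.obj.fst) [𝒳.p.IsStronglyCartesian f φ₁]
    {x₂ : 𝒴.obj} (φ₂ : x₂ ⟶ y.obj.snd) [𝒴.p.IsStronglyCartesian f φ₂]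
    [𝒮.p.IsStronglyCartesian f (F.toFunctor.map φ₁)] [𝒮.p.IsStronglyCartesian f (G.toFunctor.map φ₂)] :
    ∃ (x : (FibCat.fp F G).obj) (φ : x ⟶ y), (FibCat.fp F G).p.IsStronglyCartesian f φ := by
  have hy : 𝒮.p.IsHomLift (𝟙 (𝒳.p.obj y.obj.fst)) y.obj.iso.hom := y.property
  have : 𝒮.p.IsStronglyCartesian f (F.toFunctor.map φ₁ ≫ y.obj.iso.hom) := by
    simpa using (inferInstance :
      𝒮.p.IsStronglyCartesian (f ≫ 𝟙 _) (F.toFunctor.map φ₁ ≫ y.obj.iso.hom))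
  let e := IsCartesian.domainUniqueUpToIso 𝒮.p f (G.toFunctor.map φ₂)
    (F.toFunctor.map φ₁ ≫ y.obj.iso.hom)
  have he : 𝒮.p.IsHomLift (𝟙 R) e.hom := inferInstance
  have hR := IsHomLift.domain_eq 𝒳.p f φ₁
  subst hR
  let x : (FibCat.fp F G).obj := fpMk F G x₁ x₂ e he
  let φ : x ⟶ y := fpHom φ₁ φ₂ (IsCartesian.fac 𝒮.p f (G.toFunctor.map φ₂) _).symm
  have : (FibCat.fp F G).p.IsHomLift f φ := (fp_isHomLift_iff f φ).2 (inferInstance : 𝒳.p.IsHomLift f φ₁)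
  have : 𝒳.p.IsStronglyCartesian f φ.hom.fst := ‹𝒳.p.IsStronglyCartesian f φ₁›
  have : 𝒴.p.IsStronglyCartesian f φ.hom.snd := ‹𝒴.p.IsStronglyCartesian f φ₂›
  exact ⟨x, φ, sc_fp f φ (fun {T s} g ψ ψ' _ _ h =>
    IsStronglyCartesian.ext 𝒮.p f (G.toFunctor.map φ₂) g h)⟩

theorem fp_isFibered [𝒳.p.IsFibered] [𝒴.p.IsFibered]
    (hF : ∀ {R S : C} (f : R ⟶ S) {a b : 𝒳.obj} (φ : a ⟶ b), 𝒳.p.IsStronglyCartesian f φ →
      𝒮.p.IsStronglyCartesian f (F.toFunctor.map φ))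
    (hG : ∀ {R S : C} (f : R ⟶ S) {a b : 𝒴.obj} (φ : a ⟶ b), 𝒴.p.IsStronglyCartesian f φ →
      𝒮.p.IsStronglyCartesian f (G.toFunctor.map φ)) :
    (FibCat.fp F G).p.IsFibered := by
  refine IsFibered.of_exists_isStronglyCartesian (fun y R f => ?_)
  obtain ⟨x₁, φ₁, h₁⟩ := exists_sc_lift (p := 𝒳.p) (x := y.obj.fst) rfl f
  obtain ⟨x₂, φ₂, h₂⟩ := exists_sc_lift (p := 𝒴.p) (x := y.obj.snd) (fp_snd_proj y) f
  have := hF f φ₁ h₁
  have := hG f φ₂ h₂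
  exact exists_sc_fp y f φ₁ φ₂

theorem fp_isFibGrpd (h𝒳 : FibCat.IsFibGrpd 𝒳.p) (h𝒴 : FibCat.IsFibGrpd 𝒴.p)
    (h𝒮 : FibCat.IsFibGrpd 𝒮.p) : FibCat.IsFibGrpd (FibCat.fp F G).p := by
  constructor
  · intro y R f
    obtain ⟨x₁, φ₁, h₁⟩ := exists_lift' h𝒳 (x := y.obj.fst) rfl f
    obtain ⟨x₂, φ₂, h₂⟩ := exists_lift' h𝒴 (fp_snd_proj y) f
    have := sc_of_fibGrpd h𝒳 f φ₁
    have := sc_of_fibGrpd h𝒴 f φ₂
    have := sc_of_fibGrpd h𝒮 f (F.toFunctor.map φ₁)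
    have := sc_of_fibGrpd h𝒮 f (G.toFunctor.map φ₂)
    obtain ⟨x, φ, hφ⟩ := exists_sc_fp y f φ₁ φ₂
    exact ⟨x, φ, inferInstance⟩
  · intro x y φ
    have := sc_of_fibGrpd h𝒳 ((FibCat.fp F G).p.map φ) φ.hom.fst
    have := sc_of_fibGrpd h𝒴 ((FibCat.fp F G).p.map φ) φ.hom.snd
    have := sc_of_fibGrpd h𝒮 ((FibCat.fp F G).p.map φ) (G.toFunctor.map φ.hom.snd)
    exact sc_fp _ φ (fun {T s} g ψ ψ' _ _ h =>
      IsStronglyCartesian.ext 𝒮.p ((FibCat.fp F G).p.map φ) (G.toFunctor.map φ.hom.snd) g h)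

/-- Morphisms of based categories fibred in groupoids preserve strongly cartesian morphisms. -/
theorem preservesSC_of_fibGrpd {H : 𝒳 ⥤ᵇ 𝒮} (h : FibCat.IsFibGrpd 𝒮.p) :
    FibCat.PreservesStronglyCartesian H := fun _ _ f _ _ φ _ =>
  sc_of_fibGrpd h f (H.toFunctor.map φ)

section self

variable {A : BasedCategory.{v₂, u₂} C} {B : BasedCategory.{v₃, u₃} C}

theorem self_isHomLift {R S a b : C} (f : R ⟶ S) (φ : a ⟶ b)
    [h : (FibCat.selfOver C).p.IsHomLift f φ] :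
    ∃ (ha : a = R) (hb : b = S), φ = eqToHom ha ≫ f ≫ eqToHom hb.symm :=
  ⟨IsHomLift.domain_eq (FibCat.selfOver C).p f φ, IsHomLift.codomain_eq (FibCat.selfOver C).p f φ,
    IsHomLift.fac' (FibCat.selfOver C).p f φ⟩

theorem self_eq {R S a b : C} (f : R ⟶ S) (φ φ' : a ⟶ b)
    [(FibCat.selfOver C).p.IsHomLift f φ] [(FibCat.selfOver C).p.IsHomLift f φ'] : φ = φ' :=
  (IsHomLift.fac' (FibCat.selfOver C).p f φ).trans (IsHomLift.fac' (FibCat.selfOver C).p f φ').symm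

/-- Morphisms into the product over `C`: two lifts of the same morphism. -/
theorem self_w {x y : (FibCat.fp (FibCat.toSelf A) (FibCat.toSelf B)).obj} {R S : C} (f : R ⟶ S)
    (a : x.obj.fst ⟶ y.obj.fst) (b : x.obj.snd ⟶ y.obj.snd) [A.p.IsHomLift f a]
    [B.p.IsHomLift f b] :
    (FibCat.toSelf A).toFunctor.map a ≫ y.obj.iso.hom =
      x.obj.iso.hom ≫ (FibCat.toSelf B).toFunctor.map b := by
  have := fp_iso_lift (F := FibCat.toSelf A) (G := FibCat.toSelf B) (x := x)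
    (IsHomLift.domain_eq A.p f a)
  have := fp_iso_lift (F := FibCat.toSelf A) (G := FibCat.toSelf B) (x := y)
    (IsHomLift.codomain_eq A.p f a)
  exact self_eq f _ _

/-- The object `(a, b)` of the product over `C`. -/
def selfMk (a : A.obj) (b : B.obj) (h : A.p.obj a = B.p.obj b) :
    (FibCat.fp (FibCat.toSelf A) (FibCat.toSelf B)).obj :=
  fpMk (FibCat.toSelf A) (FibCat.toSelf B) a b (eqToIso h)
    (IsHomLift.eqToHom_domain_lift_id (p := 𝟭 C) h rfl)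

@[simp] theorem selfMk_fst (a : A.obj) (b : B.obj) (h : A.p.obj a = B.p.obj b) :
    (selfMk a b h).obj.fst = a := rfl

@[simp] theorem selfMk_snd (a : A.obj) (b : B.obj) (h : A.p.obj a = B.p.obj b) :
    (selfMk a b h).obj.snd = b := rfl

/-- A morphism into a product over `C` from two lifts of the same morphism. -/
def selfHom (x y : (FibCat.fp (FibCat.toSelf A) (FibCat.toSelf B)).obj) {R S : C} (f : R ⟶ S)
    (a : x.obj.fst ⟶ y.obj.fst) (b : x.obj.snd ⟶ y.obj.snd) (_ : A.p.IsHomLift f a)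
    (_ : B.p.IsHomLift f b) : x ⟶ y :=
  fpHom a b (self_w f a b)

@[simp] theorem selfHom_fst (x y : (FibCat.fp (FibCat.toSelf A) (FibCat.toSelf B)).obj) {R S : C}
    (f : R ⟶ S) (a : x.obj.fst ⟶ y.obj.fst) (b : x.obj.snd ⟶ y.obj.snd) (ha : A.p.IsHomLift f a)
    (hb : B.p.IsHomLift f b) : (selfHom x y f a b ha hb).hom.fst = a := rfl

@[simp] theorem selfHom_snd (x y : (FibCat.fp (FibCat.toSelf A) (FibCat.toSelf B)).obj) {R S : C}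
    (f : R ⟶ S) (a : x.obj.fst ⟶ y.obj.fst) (b : x.obj.snd ⟶ y.obj.snd) (ha : A.p.IsHomLift f a)
    (hb : B.p.IsHomLift f b) : (selfHom x y f a b ha hb).hom.snd = b := rfl

theorem selfOver_fibGrpd : FibCat.IsFibGrpd (FibCat.selfOver C).p := by
  constructor
  · intro x V f
    exact ⟨V, f, Functor.IsHomLift.map (p := 𝟭 C) f⟩
  · intro y x φ
    refine @IsStronglyCartesian.mk _ _ _ _ _ _ _ _ _ _ φ inferInstance ?_
    intro a g ψ hψ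
    refine ⟨g, ⟨Functor.IsHomLift.map (p := 𝟭 C) g, ?_⟩, ?_⟩
    · exact IsHomLift.eq_of_isHomLift (FibCat.selfOver C).p
        (g ≫ (FibCat.selfOver C).p.map φ) ψ
    · rintro χ ⟨hχ, -⟩
      exact (IsHomLift.eq_of_isHomLift (FibCat.selfOver C).p g χ).symm

end self

end Groth.Agent.FibC
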