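import Groth.Agent.FibC.Yoneda
import Groth.Agent.StFib.Square
import Groth.Agent.StFib.Diag

/-!
Representable categories over a base and representable 1-morphisms.
-/

set_option backward.isDefEq.respectTransparency false
set_option backward.isDefEq.respectTransparency.types false

universe v₅ u₅ v₄ u₄ v₃ u₃ v₂ u₂ v u

open CategoryTheory CategoryTheory.Functor CategoryTheory.Limits

namespace Groth.Agent.FibC

variable {C : Type u} [Category.{v} C]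
variable {𝒳 : BasedCategory.{v₂, u₂} C} {𝒴 : BasedCategory.{v₃, u₃} C}

theorem isRepresentable_of_equiv {E : 𝒳 ⥤ᵇ 𝒴} (hE : FibCat.IsEquivOver E)
    (h : FibCat.IsRepresentable 𝒴) : FibCat.IsRepresentable 𝒳 := by
  obtain ⟨U, F, hF⟩ := h
  exact ⟨U, BasedFunctor.comp E F, isEquivOver_comp hE hF⟩

theorem isRepresentable_of_equiv' {E : 𝒳 ⥤ᵇ 𝒴} (hE : FibCat.IsEquivOver E)
    (h : FibCat.IsRepresentable 𝒳) : FibCat.IsRepresentable 𝒴 := by
  obtain ⟨G, hG, -, -⟩ := StFib.isEquivOver_symm hE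
  exact isRepresentable_of_equiv hG h

theorem isRepresentable_iff_of_equiv {E : 𝒳 ⥤ᵇ 𝒴} (hE : FibCat.IsEquivOver E) :
    FibCat.IsRepresentable 𝒳 ↔ FibCat.IsRepresentable 𝒴 :=
  ⟨isRepresentable_of_equiv' hE, isRepresentable_of_equiv hE⟩

theorem isRepresentable_fp_swap {𝒮 : BasedCategory.{v₄, u₄} C} (F : 𝒳 ⥤ᵇ 𝒮) (G : 𝒴 ⥤ᵇ 𝒮) :
    FibCat.IsRepresentable (FibCat.fp F G) ↔ FibCat.IsRepresentable (FibCat.fp G F) :=
  isRepresentable_iff_of_equiv (StFib.fpSwap_isEquivOver F G)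

theorem isRepresentable_fp_congr {𝒮 : BasedCategory.{v₄, u₄} C} {F F' : 𝒳 ⥤ᵇ 𝒮} {G G' : 𝒴 ⥤ᵇ 𝒮}
    (eF : F ≅ F') (eG : G ≅ G') :
    FibCat.IsRepresentable (FibCat.fp F G) ↔ FibCat.IsRepresentable (FibCat.fp F' G') := by
  obtain ⟨E, hE, -, -⟩ := StFib.exists_fp_congr eF.symm eG.symm
  exact isRepresentable_iff_of_equiv hE

theorem full_id (𝒴 : BasedCategory.{v₃, u₃} C) : (BasedFunctor.id 𝒴).toFunctor.Full :=
  inferInstanceAs (𝟭 𝒴.obj).Full

theorem faithful_id (𝒴 : BasedCategory.{v₃, u₃} C) : (BasedFunctor.id 𝒴).toFunctor.Faithful :=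
  inferInstanceAs (𝟭 𝒴.obj).Faithful

/-- Changing the left leg of a fibre product along an equivalence. -/
theorem isRepresentable_fp_comp_equiv {𝒵 : BasedCategory.{v₄, u₄} C} {𝒮 : BasedCategory.{v₅, u₅} C}
    {E : 𝒳 ⥤ᵇ 𝒴} (hE : FibCat.IsEquivOver E) (F : 𝒴 ⥤ᵇ 𝒮) (G : 𝒵 ⥤ᵇ 𝒮) :
    FibCat.IsRepresentable (FibCat.fp (BasedFunctor.comp E F) G) ↔
      FibCat.IsRepresentable (FibCat.fp F G) := by
  have := full_id 𝒮
  have := faithful_id 𝒮
  exact isRepresentable_iff_of_equiv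
    (StFib.fpMap_isEquivOver (F := F) (G := G) (F' := BasedFunctor.comp E F) (G' := G)
      E (BasedFunctor.id 𝒵) (BasedFunctor.id 𝒮) (Iso.refl _) (Iso.refl _) hE
      (StFib.isEquivOver_id _))

/-- Every functor between slices over the base is a pushforward. -/
theorem exists_iso_overMap {V U : C} (G : FibCat.overCat V ⥤ᵇ FibCat.overCat U) :
    ∃ h : V ⟶ U, Nonempty (G ≅ overMap h) := by
  let a := G.toFunctor.obj (overTop V)
  have ha : Over.left a = V := G.w_obj (overTop V)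
  let h : V ⟶ U := eqToHom ha.symm ≫ (show Over.left a ⟶ U from Over.hom a)
  let e : a ≅ (overMap h).toFunctor.obj (overTop V) :=
    Over.isoMk (show Over.left a ≅ V from eqToIso ha) (by
      show eqToHom ha ≫ 𝟙 V ≫ h = _
      simp [h])
  have he : (FibCat.overCat U).p.IsHomLift (𝟙 V) e.hom :=
    IsHomLift.of_fac (Over.forget U) (𝟙 V) e.hom ha rfl (by simp [e])
  obtain ⟨ε, -⟩ := yoneda_iso (preserves_overCat (overForget_isFibSet U).1 G)
    (preserves_overCat (overForget_isFibSet U).1 (overMap h)) e he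
  exact ⟨h, ⟨ε⟩⟩

theorem eq_of_overMap_iso {V U : C} {h h' : V ⟶ U} (ε : overMap h ≅ overMap h') : h = h' := by
  let α := ε.hom.toNatTrans.app (overTop V)
  have hα : (FibCat.overCat U).p.IsHomLift (𝟙 V) α := BasedNatTrans.app_isHomLift ε.hom (overTop V)
  have e : (𝟙 V) = Over.Hom.left α :=
    @IsHomLift.eq_of_isHomLift _ _ _ _ (Over.forget U)
      ((overMap h).toFunctor.obj (overTop V)) ((overMap h').toFunctor.obj (overTop V)) (𝟙 V) α hα
  have w : Over.Hom.left α ≫ (𝟙 V ≫ h') = 𝟙 V ≫ h := Over.w α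
  rw [← e] at w
  simpa using w.symm

/-- Pushforwards of slices compose. -/
theorem overMap_comp {W V U : C} (h : W ⟶ V) (h' : V ⟶ U) :
    Nonempty (BasedFunctor.comp (overMap h) (overMap h') ≅ overMap (h ≫ h')) := by
  let e : (BasedFunctor.comp (overMap h) (overMap h')).toFunctor.obj (overTop W) ≅
      (overMap (h ≫ h')).toFunctor.obj (overTop W) :=
    Over.isoMk (Iso.refl W) (by show 𝟙 W ≫ 𝟙 W ≫ h ≫ h' = (𝟙 W ≫ h) ≫ h'; simp)
  obtain ⟨ε, -⟩ := yoneda_iso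
    (preserves_overCat (overForget_isFibSet U).1 (BasedFunctor.comp (overMap h) (overMap h')))
    (preserves_overCat (overForget_isFibSet U).1 (overMap (h ≫ h'))) e
    (IsHomLift.of_fac (Over.forget U) (𝟙 W) e.hom rfl rfl (by simp [e]))
  exact ⟨ε⟩

theorem overMap_id (U : C) : Nonempty (overMap (𝟙 U) ≅ BasedFunctor.id (FibCat.overCat U)) := by
  let e : (overMap (𝟙 U)).toFunctor.obj (overTop U) ≅
      (BasedFunctor.id (FibCat.overCat U)).toFunctor.obj (overTop U) :=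
    Over.isoMk (Iso.refl U) (by show 𝟙 U ≫ 𝟙 U = 𝟙 U ≫ 𝟙 U; rfl)
  obtain ⟨ε, -⟩ := yoneda_iso (preserves_overCat (overForget_isFibSet U).1 (overMap (𝟙 U)))
    (preserves_overCat (overForget_isFibSet U).1 (BasedFunctor.id _)) e
    (IsHomLift.of_fac (Over.forget U) (𝟙 U) e.hom rfl rfl (by simp [e]))
  exact ⟨ε⟩

theorem isFibGrpd_of_isRepresentable (h : FibCat.IsRepresentable 𝒳) : FibCat.IsFibGrpd 𝒳.p := by
  obtain ⟨U, F, hF⟩ := h
  obtain ⟨G, hG, -, -⟩ := StFib.isEquivOver_symm hF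
  exact fibGrpd_of_equivOver hG (overForget_isFibSet U).1

theorem exists_terminal_of_isRepresentable (h : FibCat.IsRepresentable 𝒳) :
    ∃ ξ : 𝒳.obj, ∀ ρ : 𝒳.obj, Nonempty (Unique (ρ ⟶ ξ)) := by
  obtain ⟨U, F, hF⟩ := h
  have := full_of_isEquivOver hF
  have := faithful_of_isEquivOver hF
  obtain ⟨ξ, e, -⟩ := essSurjOver_of_isEquivOver hF (overTop U)
  refine ⟨ξ, fun ρ => ⟨{ default := F.toFunctor.preimage (toTop _ ≫ e.inv), uniq := fun φ => ?_ }⟩⟩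
  apply F.toFunctor.map_injective
  rw [F.toFunctor.map_preimage, Iso.eq_comp_inv]
  apply Over.OverMorphism.ext
  exact (Category.comp_id _).symm.trans (Over.w (F.toFunctor.map φ ≫ e.hom))

/-- A category fibred in groupoids with a terminal object is representable. -/
theorem isRepresentable_of_terminal (h : FibCat.IsFibGrpd 𝒳.p) (ξ : 𝒳.obj)
    (hξ : ∀ ρ : 𝒳.obj, Nonempty (Unique (ρ ⟶ ξ))) : FibCat.IsRepresentable 𝒳 := by
  let t : ∀ ρ, ρ ⟶ ξ := fun ρ => (hξ ρ).some.default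
  have ht : ∀ {ρ} (φ : ρ ⟶ ξ), φ = t ρ := fun {ρ} φ => (hξ ρ).some.uniq φ
  let F₀ : 𝒳.obj ⥤ Over (𝒳.p.obj ξ) :=
    { obj := fun a => Over.mk (𝒳.p.map (t a))
      map := fun {a b} φ => Over.homMk (𝒳.p.map φ) (by
        show 𝒳.p.map φ ≫ 𝒳.p.map (t b) = 𝒳.p.map (t a)
        rw [← Functor.map_comp, ht (φ ≫ t b)])
      map_id := fun a => Over.OverMorphism.ext (by simp)
      map_comp := fun φ ψ => Over.OverMorphism.ext (by simp) }
  let F : 𝒳 ⥤ᵇ FibCat.overCat (𝒳.p.obj ξ) := ⟨F₀, rfl⟩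
  refine ⟨_, F, (isEquivOver_iff F).2 ⟨⟨⟨fun {a b} k => ?_⟩, ⟨fun {a b} φ ψ e => ?_⟩⟩, fun η => ?_⟩⟩
  · have hw : Over.Hom.left k ≫ 𝒳.p.map (t b) = 𝒳.p.map (t a) := Over.w k
    have := h.isStronglyCartesian (t b)
    obtain ⟨χ, ⟨hχ, -⟩, -⟩ := IsStronglyCartesian.universal_property 𝒳.p (𝒳.p.map (t b)) (t b)
      (Over.Hom.left k) (𝒳.p.map (t a)) hw.symm (t a)
    exact ⟨χ, Over.OverMorphism.ext (IsHomLift.eq_of_isHomLift 𝒳.p (Over.Hom.left k) χ).symm⟩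
  · have he : 𝒳.p.map φ = 𝒳.p.map ψ := congrArg Over.Hom.left e
    have := h.isStronglyCartesian (t b)
    have : 𝒳.p.IsHomLift (𝒳.p.map φ) ψ := he ▸ inferInstance
    exact IsStronglyCartesian.ext 𝒳.p (𝒳.p.map (t b)) (t b) (𝒳.p.map φ)
      (by rw [ht (φ ≫ t b), ht (ψ ≫ t b)])
  · obtain ⟨y, φ, hφ⟩ := h.exists_lift (x := ξ) (show Over.left η ⟶ 𝒳.p.obj ξ from Over.hom η)
    have hy : 𝒳.p.obj y = Over.left η := IsHomLift.domain_eq 𝒳.p (Over.hom η) φ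
    refine ⟨y, Over.isoMk (show Over.left (F₀.obj y) ≅ Over.left η from eqToIso hy) ?_, ?_⟩
    · show eqToHom hy ≫ Over.hom η = 𝒳.p.map (t y)
      rw [← ht φ, IsHomLift.fac' 𝒳.p (Over.hom η) φ]
      simp
    · exact IsHomLift.of_fac (Over.forget _) _ _ hy rfl (by simp)

theorem fp_fibGrpd_of_overCat {𝒮 : BasedCategory.{v₄, u₄} C} (h𝒮 : FibCat.IsFibGrpd 𝒮.p) {U V : C}
    (F : FibCat.overCat U ⥤ᵇ 𝒮) (G : FibCat.overCat V ⥤ᵇ 𝒮) :
    FibCat.IsFibGrpd (FibCat.fp F G).p :=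
  fp_isFibGrpd (overForget_isFibSet U).1 (overForget_isFibSet V).1 h𝒮

end Groth.Agent.FibC
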