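import Groth.Agent.FibC.Rep
import Mathlib.CategoryTheory.Limits.Shapes.BinaryProducts
import Mathlib.CategoryTheory.Limits.Shapes.Pullback.HasPullback

/-!
Representable categories over a base with products and fibre products.
-/

set_option backward.isDefEq.respectTransparency false
set_option backward.isDefEq.respectTransparency.types false

universe v₄ u₄ v₃ u₃ v₂ u₂ v u

open CategoryTheory CategoryTheory.Functor CategoryTheory.Limits

namespace Groth.Agent.FibC

variable {C : Type u} [Category.{v} C] {𝒜 : BasedCategory.{v₂, u₂} C}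

/-- Any two functors to the base over the base are isomorphic. -/
def selfIso (a b : 𝒜 ⥤ᵇ FibCat.selfOver C) : a ≅ b :=
  StFib.isoMk (fun w => eqToIso ((a.w_obj w).trans (b.w_obj w).symm))
    (fun w => StFib.vert_eqToHom (𝒳 := FibCat.selfOver C) ((a.w_obj w).trans (b.w_obj w).symm))
    (fun {w w'} φ => by
      have ha : a.toFunctor.map φ = eqToHom (a.w_obj w) ≫ 𝒜.p.map φ ≫ eqToHom (a.w_obj w').symm :=
        Functor.congr_hom a.w φ
      have hb : b.toFunctor.map φ = eqToHom (b.w_obj w) ≫ 𝒜.p.map φ ≫ eqToHom (b.w_obj w').symm :=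
        Functor.congr_hom b.w φ
      simp [ha, hb])

/-- The structure of a functor between slices. -/
theorem exists_hom_eq {V U : C} (G : FibCat.overCat V ⥤ᵇ FibCat.overCat U) :
    ∃ h : V ⟶ U, ∀ d : (FibCat.overCat V).obj,
      (Over.hom (G.toFunctor.obj d) : Over.left (G.toFunctor.obj d) ⟶ U) =
        eqToHom (G.w_obj d) ≫ (Over.hom d : Over.left d ⟶ V) ≫ h := by
  obtain ⟨h, ⟨ε⟩⟩ := exists_iso_overMap G
  refine ⟨h, fun d => ?_⟩
  let α : G.toFunctor.obj d ⟶ (overMap h).toFunctor.obj d := (appIso ε d).hom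
  have hα : (Over.forget U).IsHomLift (𝟙 (Over.left d)) α := appIso_lift ε rfl
  have e : Over.Hom.left α = eqToHom (G.w_obj d) :=
    (@IsHomLift.fac' _ _ _ _ (Over.forget U) _ _ _ _ (𝟙 (Over.left d)) α hα).trans (by simp)
  have w : Over.Hom.left α ≫ (Over.hom d : Over.left d ⟶ V) ≫ h =
      (Over.hom (G.toFunctor.obj d) : Over.left (G.toFunctor.obj d) ⟶ U) := Over.w α
  rw [e] at w
  exact w.symm

theorem isRepresentable1_to_self [HasBinaryProducts C] {V : C}
    (H : FibCat.overCat V ⥤ᵇ FibCat.selfOver C) : FibCat.IsRepresentable1 H := by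
  intro U G
  let P := prod U V
  let A : (FibCat.overCat U).obj := Over.mk (prod.fst : P ⟶ U)
  let B : (FibCat.overCat V).obj := Over.mk (prod.snd : P ⟶ V)
  have hAB : G.toFunctor.obj A = H.toFunctor.obj B := (G.w_obj A).trans (H.w_obj B).symm
  let ξ : (FibCat.fp G H).obj := fpMk G H A B (eqToIso hAB)
    (IsHomLift.eqToHom_domain_lift_id (p := 𝟭 C) hAB (G.w_obj A))
  refine isRepresentable_of_terminal (fp_fibGrpd_of_overCat selfOver_fibGrpd G H) ξ fun ρ => ?_
  let a : Over.left ρ.obj.fst ⟶ U := Over.hom ρ.obj.fst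
  let b : Over.left ρ.obj.snd ⟶ V := Over.hom ρ.obj.snd
  have e : Over.left ρ.obj.snd = Over.left ρ.obj.fst := fp_snd_proj ρ
  let k : Over.left ρ.obj.fst ⟶ P := prod.lift a (eqToHom e.symm ≫ b)
  let m₁ : ρ.obj.fst ⟶ A := Over.homMk k (prod.lift_fst _ _)
  let m₂ : ρ.obj.snd ⟶ B := Over.homMk (eqToHom e ≫ k) (by
    show (eqToHom e ≫ k) ≫ prod.snd = b
    simp [k])
  have h₁ : (FibCat.selfOver C).p.IsHomLift k (G.toFunctor.map m₁) := map_lift G m₁
  have h₂ : (FibCat.selfOver C).p.IsHomLift k (H.toFunctor.map m₂) := by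
    have : (FibCat.selfOver C).p.IsHomLift (eqToHom e ≫ k) (H.toFunctor.map m₂) := map_lift H m₂
    exact (IsHomLift.lift_eqToHom_comp_iff _ k _ e).1 this
  have hi := fp_iso_lift (F := G) (G := H) (x := ρ) (R := Over.left ρ.obj.fst) rfl
  have hξ := fp_iso_lift (F := G) (G := H) (x := ξ) (R := P) rfl
  refine ⟨{ default := fpHom m₁ m₂ (self_eq k _ _), uniq := fun m => ?_ }⟩
  have hm : (FibCat.overCat V).p.IsHomLift (Over.Hom.left m.hom.fst) m.hom.snd :=
    @fp_snd_isHomLift _ _ _ _ _ G H _ _ _ _ (Over.Hom.left m.hom.fst) m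
      ((fp_isHomLift_iff _ _).2 (over_lift _))
  let ms : ρ.obj.snd ⟶ B := m.hom.snd
  have hm' : Over.Hom.left ms = eqToHom e ≫ Over.Hom.left m.hom.fst := by
    have := @IsHomLift.fac' _ _ _ _ (Over.forget V) _ _ _ _ (Over.Hom.left m.hom.fst) m.hom.snd hm
    exact this.trans ((congrArg (eqToHom _ ≫ ·) (Category.comp_id _)))
  have h3 : (Over.Hom.left m.hom.fst : Over.left ρ.obj.fst ⟶ P) = k := by
    apply Limits.prod.hom_ext
    · exact (Over.w m.hom.fst).trans (prod.lift_fst _ _).symm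
    · have w : Over.Hom.left ms ≫ prod.snd = b := Over.w ms
      rw [hm'] at w
      rw [show k ≫ prod.snd = eqToHom e.symm ≫ b from prod.lift_snd _ _, ← w]
      simp
  refine fp_hom_ext (Over.OverMorphism.ext h3) (Over.OverMorphism.ext ?_)
  show Over.Hom.left ms = eqToHom e ≫ k
  rw [hm', ← h3]

theorem isRepresentable1_diag_overCat [HasBinaryProducts C] [HasPullbacks C] (W : C) :
    FibCat.IsRepresentable1 (FibCat.diag (FibCat.toSelf (FibCat.overCat W))) := by
  intro V k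
  let k₁ := BasedFunctor.comp k (FibCat.fpFst (FibCat.toSelf (FibCat.overCat W)) (FibCat.toSelf (FibCat.overCat W)))
  let k₂ := BasedFunctor.comp k (FibCat.fpSnd (FibCat.toSelf (FibCat.overCat W)) (FibCat.toSelf (FibCat.overCat W)))
  obtain ⟨a, ha⟩ := exists_hom_eq k₁
  obtain ⟨b, hb⟩ := exists_hom_eq k₂
  let E := pullback (prod.lift a b) (prod.lift (𝟙 W) (𝟙 W))
  let e₁ : E ⟶ V := pullback.fst _ _
  let q : E ⟶ W := pullback.snd _ _
  have hcond := pullback.condition (f := prod.lift a b) (g := prod.lift (𝟙 W) (𝟙 W))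
  have hqa : q = e₁ ≫ a := by
    have := congrArg (· ≫ prod.fst) hcond
    simpa [e₁, q] using this.symm
  have hqb : q = e₁ ≫ b := by
    have := congrArg (· ≫ prod.snd) hcond
    simpa [e₁, q] using this.symm
  let D : (FibCat.overCat V).obj := Over.mk e₁
  let c : (FibCat.overCat W).obj := Over.mk q
  let i₁ : k₁.toFunctor.obj D ≅ c :=
    Over.isoMk (show Over.left (k₁.toFunctor.obj D) ≅ E from eqToIso (k₁.w_obj D)) (by
      show eqToHom (k₁.w_obj D) ≫ q = _
      rw [hqa]; exact (ha D).symm)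
  let i₂ : k₂.toFunctor.obj D ≅ c :=
    Over.isoMk (show Over.left (k₂.toFunctor.obj D) ≅ E from eqToIso (k₂.w_obj D)) (by
      show eqToHom (k₂.w_obj D) ≫ q = _
      rw [hqb]; exact (hb D).symm)
  have hi₁ : (FibCat.overCat W).p.IsHomLift (𝟙 E) i₁.hom :=
    IsHomLift.of_fac (Over.forget W) _ _ (k₁.w_obj D) rfl (by simp [i₁])
  have hi₂ : (FibCat.overCat W).p.IsHomLift (𝟙 E) i₂.hom :=
    IsHomLift.of_fac (Over.forget W) _ _ (k₂.w_obj D) rfl (by simp [i₂])
  let ξ : (FibCat.fp k (FibCat.diag (FibCat.toSelf (FibCat.overCat W)))).obj :=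
    fpMk k _ D c (fpIsoMk i₁ i₂ (@self_w _ _ _ _ (k.toFunctor.obj D)
      ((FibCat.diag (FibCat.toSelf (FibCat.overCat W))).toFunctor.obj c) _ _ (𝟙 E) _ _ hi₁ hi₂))
      ((fp_isHomLift_iff _ _).2 hi₁)
  refine isRepresentable_of_terminal
    (fp_isFibGrpd (overForget_isFibSet V).1 (overForget_isFibSet W).1
      (fp_isFibGrpd (overForget_isFibSet W).1 (overForget_isFibSet W).1 selfOver_fibGrpd)) ξ fun ρ => ?_
  let d := ρ.obj.fst
  let c' := ρ.obj.snd
  let dh : Over.left d ⟶ V := Over.hom d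
  let ch : Over.left c' ⟶ W := Over.hom c'
  have ec : Over.left c' = Over.left d := fp_snd_proj ρ
  let l₁ : k₁.toFunctor.obj d ⟶ c' := ρ.obj.iso.hom.hom.fst
  let l₂ : k₂.toFunctor.obj d ⟶ c' := ρ.obj.iso.hom.hom.snd
  have hl : (FibCat.fp (FibCat.toSelf (FibCat.overCat W)) (FibCat.toSelf (FibCat.overCat W))).p.IsHomLift
      (𝟙 (Over.left d)) ρ.obj.iso.hom := ρ.property
  have hl₁ : (Over.forget W).IsHomLift (𝟙 (Over.left d)) l₁ := (fp_isHomLift_iff _ _).1 hl
  have hl₂ : (Over.forget W).IsHomLift (𝟙 (Over.left d)) l₂ :=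
    @fp_snd_isHomLift _ _ _ _ _ (FibCat.toSelf (FibCat.overCat W)) (FibCat.toSelf (FibCat.overCat W))
      _ _ _ _ (𝟙 (Over.left d)) ρ.obj.iso.hom hl
  have e₁' : Over.Hom.left l₁ = eqToHom ((k₁.w_obj d).trans ec.symm) :=
    (@IsHomLift.fac' _ _ _ _ (Over.forget W) _ _ _ _ (𝟙 (Over.left d)) l₁ hl₁).trans (by simp)
  have e₂' : Over.Hom.left l₂ = eqToHom ((k₂.w_obj d).trans ec.symm) :=
    (@IsHomLift.fac' _ _ _ _ (Over.forget W) _ _ _ _ (𝟙 (Over.left d)) l₂ hl₂).trans (by simp)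
  have hca : dh ≫ a = eqToHom ec.symm ≫ ch := by
    have w : Over.Hom.left l₁ ≫ ch = _ := (Over.w l₁).trans (ha d)
    rw [e₁'] at w
    rw [← cancel_epi (eqToHom (k₁.w_obj d)), eqToHom_trans_assoc]
    exact w.symm
  have hcb : dh ≫ b = eqToHom ec.symm ≫ ch := by
    have w : Over.Hom.left l₂ ≫ ch = _ := (Over.w l₂).trans (hb d)
    rw [e₂'] at w
    rw [← cancel_epi (eqToHom (k₂.w_obj d)), eqToHom_trans_assoc]
    exact w.symm
  let K : Over.left d ⟶ E := pullback.lift dh (dh ≫ a) (by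
    apply Limits.prod.hom_ext
    · simp
    · simp [hca, hcb])
  have hK₁ : K ≫ e₁ = dh := pullback.lift_fst _ _ _
  have hK₂ : K ≫ q = eqToHom ec.symm ≫ ch := (pullback.lift_snd _ _ _).trans hca
  let m₁ : d ⟶ D := Over.homMk K hK₁
  let m₂ : c' ⟶ c := Over.homMk (eqToHom ec ≫ K) (by
    show (eqToHom ec ≫ K) ≫ q = ch
    simp [hK₂])
  have hm₁ : (Over.forget W).IsHomLift K (k₁.toFunctor.map m₁) := map_lift k₁ m₁
  have hm₂ : (Over.forget W).IsHomLift K (k₂.toFunctor.map m₁) := map_lift k₂ m₁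
  refine ⟨{ default := fpHom m₁ m₂ ?_, uniq := fun m => ?_ }⟩
  · refine fp_hom_ext (Over.OverMorphism.ext ?_) (Over.OverMorphism.ext ?_)
    · show Over.Hom.left (k₁.toFunctor.map m₁) ≫ Over.Hom.left i₁.hom = Over.Hom.left l₁ ≫ eqToHom ec ≫ K
      have hk := @IsHomLift.fac' _ _ _ _ (Over.forget W) _ _ _ _ K (k₁.toFunctor.map m₁) hm₁
      change Over.Hom.left (k₁.toFunctor.map m₁) = _ at hk
      rw [hk, e₁']
      simp [i₁]
    · show Over.Hom.left (k₂.toFunctor.map m₁) ≫ Over.Hom.left i₂.hom = Over.Hom.left l₂ ≫ eqToHom ec ≫ K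
      have hk := @IsHomLift.fac' _ _ _ _ (Over.forget W) _ _ _ _ K (k₂.toFunctor.map m₁) hm₂
      change Over.Hom.left (k₂.toFunctor.map m₁) = _ at hk
      rw [hk, e₂']
      simp [i₂]
  · have hm : (FibCat.overCat W).p.IsHomLift (Over.Hom.left m.hom.fst) m.hom.snd :=
      @fp_snd_isHomLift _ _ _ _ _ k (FibCat.diag (FibCat.toSelf (FibCat.overCat W))) _ _ _ _
        (Over.Hom.left m.hom.fst) m ((fp_isHomLift_iff _ _).2 (over_lift _))
    let ms : c' ⟶ c := m.hom.snd
    have hm' : Over.Hom.left ms = eqToHom ec ≫ Over.Hom.left m.hom.fst :=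
      (@IsHomLift.fac' _ _ _ _ (Over.forget W) _ _ _ _ (Over.Hom.left m.hom.fst) m.hom.snd hm).trans
        (congrArg (eqToHom _ ≫ ·) (Category.comp_id _))
    have h3 : (Over.Hom.left m.hom.fst : Over.left d ⟶ E) = K := by
      apply pullback.hom_ext
      · exact (Over.w m.hom.fst).trans hK₁.symm
      · have w : Over.Hom.left ms ≫ q = ch := Over.w ms
        rw [hm'] at w
        refine Eq.trans ?_ hK₂.symm
        rw [← w]
        simp
        rfl
    refine fp_hom_ext (Over.OverMorphism.ext h3) (Over.OverMorphism.ext ?_)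
    show Over.Hom.left ms = eqToHom ec ≫ K
    rw [hm', ← h3]

/-- If `f ⋙ g` and the diagonal of `g` are representable then so is `f`. -/
theorem isRepresentable1_of_comp_diag {𝒳 : BasedCategory.{v₂, u₂} C} {𝒴 : BasedCategory.{v₃, u₃} C}
    {𝒵 : BasedCategory.{v₄, u₄} C} (f : 𝒳 ⥤ᵇ 𝒴) (g : 𝒴 ⥤ᵇ 𝒵)
    (hgf : FibCat.IsRepresentable1 (BasedFunctor.comp f g))
    (hΔ : FibCat.IsRepresentable1 (FibCat.diag g)) : FibCat.IsRepresentable1 f := by
  intro U G
  let W := FibCat.fp (BasedFunctor.comp G g) (BasedFunctor.comp f g)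
  let pair : W ⥤ᵇ FibCat.fp g g :=
    FibCat.fpLift (BasedFunctor.comp (FibCat.fpFst _ _) G) (BasedFunctor.comp (FibCat.fpSnd _ _) f)
      (FibCat.fpIso (BasedFunctor.comp G g) (BasedFunctor.comp f g))
  let T : FibCat.fp G f ⥤ᵇ W := FibCat.fpLift (FibCat.fpFst G f) (FibCat.fpSnd G f)
    (StFib.isoWhiskerRight (FibCat.fpIso G f) g)
  let L := BasedFunctor.comp (FibCat.fpFst G f) G
  let app : ∀ w : (FibCat.fp G f).obj,
      pair.toFunctor.obj (T.toFunctor.obj w) ≅ (FibCat.diag g).toFunctor.obj (L.toFunctor.obj w) :=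
    fun w => fpIsoMk (Iso.refl _) w.obj.iso.symm (by
      show g.toFunctor.map (𝟙 _) ≫ 𝟙 _ = g.toFunctor.map w.obj.iso.hom ≫ g.toFunctor.map w.obj.iso.inv
      rw [← g.toFunctor.map_comp, Iso.hom_inv_id, g.toFunctor.map_id]
      exact Category.id_comp _)
  let e : BasedFunctor.comp T pair ≅ BasedFunctor.comp L (FibCat.diag g) :=
    StFib.isoMk app (fun w => StFib.Vert.id _)
      (fun {w w'} φ => fp_hom_ext ((Category.comp_id _).trans (Category.id_comp _).symm) (by
        show f.toFunctor.map φ.hom.snd ≫ w'.obj.iso.inv = w.obj.iso.inv ≫ G.toFunctor.map φ.hom.fst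
        rw [Iso.comp_inv_eq, Category.assoc, φ.hom.w, Iso.inv_hom_id_assoc]))
  refine isRepresentable_of_equiv (E := FibCat.fpLift T L e) ?_ ?_
  · refine StFib.fpLift_isEquivOver_mk _ _ _
      (fun φ ψ h _ => fp_hom_ext (congrArg (fun t => Limits.CategoricalPullback.Hom.fst t.hom) h)
        (congrArg (fun t => Limits.CategoricalPullback.Hom.snd t.hom) h)) ?_ ?_
    · intro w w' a b h
      have h1 : G.toFunctor.map a.hom.fst ≫ 𝟙 _ = 𝟙 _ ≫ b :=
        congrArg (fun t => Limits.CategoricalPullback.Hom.fst t.hom) h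
      have h2 : f.toFunctor.map a.hom.snd ≫ w'.obj.iso.inv = w.obj.iso.inv ≫ b :=
        congrArg (fun t => Limits.CategoricalPullback.Hom.snd t.hom) h
      have h1' : G.toFunctor.map a.hom.fst = b := (Category.comp_id _).symm.trans (h1.trans (Category.id_comp _))
      refine ⟨fpHom a.hom.fst a.hom.snd ?_, fp_hom_ext rfl rfl, h1'⟩
      rw [Iso.comp_inv_eq, Category.assoc] at h2
      rw [h2, Iso.hom_inv_id_assoc, h1']
    · intro z
      let l₁ : G.toFunctor.obj z.obj.fst.obj.fst ≅ z.obj.snd := StFib.fpIsoFst z.obj.iso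
      let l₂ : f.toFunctor.obj z.obj.fst.obj.snd ≅ z.obj.snd := StFib.fpIsoSnd z.obj.iso
      have hl₁ : StFib.Vert l₁.hom := StFib.vert_fp_iff.1 (StFib.vert_fp_iso z)
      have hl₂ : StFib.Vert l₂.hom := StFib.vert_fp_snd (StFib.vert_fp_iso z)
      have hl : g.toFunctor.map l₁.hom ≫ 𝟙 _ = z.obj.fst.obj.iso.hom ≫ g.toFunctor.map l₂.hom := z.obj.iso.hom.hom.w
      have hl' : g.toFunctor.map l₁.hom = z.obj.fst.obj.iso.hom ≫ g.toFunctor.map l₂.hom :=
        (Category.comp_id _).symm.trans hl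
      refine ⟨StFib.fpMk z.obj.fst.obj.fst z.obj.fst.obj.snd (l₁ ≪≫ l₂.symm) (hl₁.comp hl₂.inv),
        fpIsoMk (Iso.refl _) (Iso.refl _) ?_, l₁, StFib.Vert.id _,
        fp_hom_ext ?_ ?_⟩
      · show g.toFunctor.map (G.toFunctor.map (𝟙 _)) ≫ z.obj.fst.obj.iso.hom =
          g.toFunctor.map (l₁.hom ≫ l₂.inv) ≫ g.toFunctor.map (f.toFunctor.map (𝟙 _))
        rw [g.toFunctor.map_comp, hl', Category.assoc, Category.assoc]
        simp [← Functor.map_comp]
        exact (Category.comp_id _).symm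
      · show G.toFunctor.map (𝟙 _) ≫ l₁.hom = 𝟙 _ ≫ l₁.hom
        simp
      · show f.toFunctor.map (𝟙 _) ≫ l₂.hom = (l₂.hom ≫ l₁.inv) ≫ l₁.hom
        simp
  · obtain ⟨V, F₀, hF₀⟩ := hgf U (BasedFunctor.comp G g)
    obtain ⟨E, hE, -, -⟩ := StFib.isEquivOver_symm hF₀
    exact (isRepresentable_fp_comp_equiv hE pair _).1 (hΔ V _)

end Groth.Agent.FibC
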