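import Groth.Agent.FibC.Fiber

/-!
Categories fibred in setoids and in sets.
-/

set_option backward.isDefEq.respectTransparency false

universe v₃ u₃ v₂ u₂ v u

open CategoryTheory CategoryTheory.Functor

namespace Groth.Agent.FibC

variable {C : Type u} [Category.{v} C]

section

variable {𝒳 : Type u₂} [Category.{v₂} 𝒳] {p : 𝒳 ⥤ C}

theorem thin_of_isDiscrete {D : Type u₂} [Category.{v₂} D] [IsDiscrete D] : Quiver.IsThin D :=
  fun _ _ => inferInstance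

theorem fibSetoid_of_fibSet (h : FibCat.IsFibSet p) : FibCat.IsFibSetoid p :=
  ⟨h.1, fun U => have := h.2 U; thin_of_isDiscrete⟩

/-- In a category fibred in setoids two parallel morphisms over the same morphism are equal. -/
theorem setoid_hom_eq (h : FibCat.IsFibSetoid p) {R S : C} {a b : 𝒳} (f : R ⟶ S) (φ φ' : a ⟶ b)
    [p.IsHomLift f φ] [p.IsHomLift f φ'] : φ = φ' := by
  have := sc_of_fibGrpd h.1 f φ'
  obtain ⟨θ, ⟨hθ, hθ'⟩, -⟩ :=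
    IsStronglyCartesian.universal_property p f φ' (𝟙 R) f (Category.id_comp f).symm φ
  let A : p.Fiber R := Fiber.mk (IsHomLift.domain_eq p f φ)
  have h1 : (⟨θ, hθ⟩ : A ⟶ A) = 𝟙 A := (h.2 R A A).elim _ _
  have h2 : θ = 𝟙 a := congrArg Subtype.val h1
  rw [← hθ', h2, Category.id_comp]

/-- In a category fibred in sets the lifts are unique. -/
theorem fibSet_lift_unique (h : FibCat.IsFibSet p) {R S : C} {η : 𝒳} (f : R ⟶ S)
    (a b : Σ ξ : 𝒳, (ξ ⟶ η)) (ha : p.IsHomLift f a.2) (hb : p.IsHomLift f b.2) : a = b := by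
  obtain ⟨a, φ⟩ := a
  obtain ⟨b, φ'⟩ := b
  have := sc_of_fibGrpd h.1 f φ'
  obtain ⟨θ, ⟨hθ, -⟩, -⟩ :=
    IsStronglyCartesian.universal_property p f φ' (𝟙 R) f (Category.id_comp f).symm φ
  let A : p.Fiber R := Fiber.mk (IsHomLift.domain_eq p f φ)
  let B : p.Fiber R := Fiber.mk (IsHomLift.domain_eq p f φ')
  have hAB : A = B := (h.2 R).eq_of_hom (⟨θ, hθ⟩ : A ⟶ B)
  obtain rfl : a = b := congrArg Subtype.val hAB
  exact Sigma.ext rfl (heq_of_eq (setoid_hom_eq (fibSetoid_of_fibSet h) f φ φ'))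

theorem fibSet_iff_unique :
    FibCat.IsFibSet p ↔
      ∀ (η : 𝒳) (U : C) (f : U ⟶ p.obj η), ∃! φ : (Σ ξ : 𝒳, (ξ ⟶ η)), p.IsHomLift f φ.2 := by
  constructor
  · intro h η U f
    obtain ⟨y, φ, hφ⟩ := h.1.exists_lift f
    exact ⟨⟨y, φ⟩, hφ, fun b hb => fibSet_lift_unique h f b ⟨y, φ⟩ hb hφ⟩
  · intro h
    have key : ∀ {R S : C} {η : 𝒳} (f : R ⟶ S) (a b : Σ ξ : 𝒳, (ξ ⟶ η)),
        p.IsHomLift f a.2 → p.IsHomLift f b.2 → a = b := by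
      intro R S η f a b ha hb
      have hS : p.obj η = S := IsHomLift.codomain_eq p f a.2
      subst hS
      exact (h η R f).unique ha hb
    refine ⟨⟨fun {x V} f => ?_, fun {y x} φ => ?_⟩, fun U => ?_⟩
    · obtain ⟨⟨y, φ⟩, hφ, -⟩ := h x V f
      exact ⟨y, φ, hφ⟩
    · refine @IsStronglyCartesian.mk _ _ _ _ _ _ _ _ _ _ φ inferInstance ?_
      intro z g ψ hψ
      obtain ⟨⟨z', χ⟩, (hχ : p.IsHomLift g χ), -⟩ := h y _ g
      have e : (⟨z', χ ≫ φ⟩ : Σ ξ : 𝒳, (ξ ⟶ x)) = ⟨z, ψ⟩ :=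
        key (g ≫ p.map φ) ⟨z', χ ≫ φ⟩ ⟨z, ψ⟩ inferInstance hψ
      obtain ⟨rfl, e'⟩ := Sigma.mk.inj_iff.1 e
      refine ⟨χ, ⟨hχ, eq_of_heq e'⟩, ?_⟩
      rintro χ' ⟨hχ', -⟩
      exact eq_of_heq (Sigma.mk.inj_iff.1 (key g ⟨_, χ'⟩ ⟨_, χ⟩ hχ' hχ)).2
    · refine ⟨fun A B => ⟨fun φ φ' => Subtype.ext
        (eq_of_heq (Sigma.mk.inj_iff.1 (key (𝟙 U) ⟨_, φ.1⟩ ⟨_, φ'.1⟩ φ.2 φ'.2)).2)⟩,
        fun {A B} φ => Subtype.ext ?_⟩
      exact congrArg Sigma.fst (key (𝟙 U) ⟨A.1, φ.1⟩ ⟨B.1, 𝟙 B.1⟩ φ.2 (IsHomLift.id B.2))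

end

section Comp

variable {𝒢 : Type u₂} [Category.{v₂} 𝒢] {G : 𝒢 ⥤ C} {ℱ : Type u₃} [Category.{v₃} ℱ] (F : ℱ ⥤ 𝒢)

theorem comp_map_isHomLift {R S : C} {a b : ℱ} (f : R ⟶ S) (φ : a ⟶ b) :
    (F ⋙ G).IsHomLift f φ ↔ G.IsHomLift f (F.map φ) := by
  constructor
  · intro h
    subst_hom_lift (F ⋙ G) f φ
    exact IsHomLift.map G (F.map φ)
  · intro h
    subst_hom_lift G f (F.map φ)
    exact IsHomLift.map (F ⋙ G) φ

/-- Over a category fibred in sets, lifting along `F` is lifting along `F ⋙ G`. -/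
theorem isHomLift_of_fibSet_comp (hG : FibCat.IsFibSet G) {R : 𝒢} {a b : ℱ}
    (f : R ⟶ F.obj b) (φ : a ⟶ b) [(F ⋙ G).IsHomLift (G.map f) φ] : F.IsHomLift f φ := by
  have e := fibSet_lift_unique hG (G.map f) ⟨F.obj a, F.map φ⟩ ⟨R, f⟩
    ((comp_map_isHomLift F _ φ).1 ‹_›) (IsHomLift.map G f)
  obtain ⟨rfl, e'⟩ := Sigma.mk.inj_iff.1 e
  rw [← eq_of_heq e']
  infer_instance

theorem sc_of_comp_sc (hG : FibCat.IsFibSet G) {R : 𝒢} {a b : ℱ}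
    (f : R ⟶ F.obj b) (φ : a ⟶ b) [h : (F ⋙ G).IsStronglyCartesian (G.map f) φ] :
    F.IsStronglyCartesian f φ := by
  have : F.IsHomLift f φ := isHomLift_of_fibSet_comp F hG f φ
  refine ⟨fun {a'} g φ' hφ' => ?_⟩
  have : (F ⋙ G).IsHomLift (G.map g ≫ G.map f) φ' := by
    rw [← G.map_comp, comp_map_isHomLift]
    rw [← IsHomLift.eq_of_isHomLift F (g ≫ f) φ']
    infer_instance
  obtain ⟨χ, ⟨hχ, hχ'⟩, hu⟩ := IsStronglyCartesian.universal_property (F ⋙ G) (G.map f) φ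
    (G.map g) _ rfl φ'
  have hR : F.obj a = R := IsHomLift.domain_eq F f φ
  subst hR
  refine ⟨χ, ⟨?_, hχ'⟩, ?_⟩
  · have := (comp_map_isHomLift F (G.map g) χ).1 hχ
    have e : g = F.map χ := setoid_hom_eq (fibSetoid_of_fibSet hG) (G.map g) g (F.map χ)
    rw [e]; infer_instance
  · rintro χ' ⟨hχ₁, hχ₂⟩
    refine hu χ' ⟨?_, hχ₂⟩
    rw [comp_map_isHomLift, IsHomLift.eq_of_isHomLift F g χ']
    infer_instance

theorem isFibered_of_comp (hG : FibCat.IsFibSet G) [(F ⋙ G).IsFibered] : F.IsFibered := by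
  refine IsFibered.of_exists_isStronglyCartesian (fun a R f => ?_)
  obtain ⟨b, φ, hφ⟩ := exists_sc_lift (p := F ⋙ G) (x := a) rfl (G.map f)
  exact ⟨b, φ, sc_of_comp_sc F hG f φ⟩

theorem isFibGrpd_of_comp (hG : FibCat.IsFibSet G) (h : FibCat.IsFibGrpd (F ⋙ G)) :
    FibCat.IsFibGrpd F := by
  constructor
  · intro a R f
    obtain ⟨b, φ, hφ⟩ := exists_lift' h (x := a) rfl (G.map f)
    exact ⟨b, φ, isHomLift_of_fibSet_comp F hG f φ⟩
  · intro b a φ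
    have : (F ⋙ G).IsStronglyCartesian (G.map (F.map φ)) φ := h.isStronglyCartesian φ
    exact sc_of_comp_sc F hG (F.map φ) φ

end Comp

theorem overForget_isFibSet (U : C) : FibCat.IsFibSet (Over.forget U) := by
  rw [fibSet_iff_unique]
  intro η V f
  change V ⟶ η.left at f
  refine ⟨⟨Over.mk (f ≫ η.hom), Over.homMk f rfl⟩,
    Functor.IsHomLift.map (p := Over.forget U) (Over.homMk f rfl : Over.mk (f ≫ η.hom) ⟶ η), ?_⟩
  rintro ⟨ξ, φ⟩ (hφ : (Over.forget U).IsHomLift f φ)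
  obtain rfl : ξ.left = V := IsHomLift.domain_eq (Over.forget U) f φ
  obtain rfl : f = φ.left := IsHomLift.eq_of_isHomLift (Over.forget U) f φ
  obtain ⟨L, ⟨⟨⟩⟩, h⟩ := ξ
  have key : ∀ (g : L ⟶ η.left) (h' : L ⟶ U) (e : g ≫ η.hom = h'),
      (⟨Over.mk h', Over.homMk g e⟩ : Σ ξ : Over U, (ξ ⟶ η)) =
        ⟨Over.mk (g ≫ η.hom), Over.homMk g rfl⟩ := by
    intro g h' e
    subst e
    rfl
  exact key φ.left h (Over.w φ)

end Groth.Agent.FibC
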