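import Groth.Prelude.Def_FibClv
import Mathlib.CategoryTheory.Bicategory.Functor.LocallyDiscrete
import Groth.Agent.FibC.Cleavage

/-!
Splittings of cleavages and strict CoGrothendieck constructions.
-/

set_option backward.isDefEq.respectTransparency false
set_option backward.isDefEq.respectTransparency.types false
set_option autoImplicit false

universe v₁ v₂ u₁ u₂

open CategoryTheory CategoryTheory.Functor Opposite

namespace Groth.Agent.FibC

section Co

variable {𝒮 : Type u₁} [Category.{v₁} 𝒮] (F : 𝒮ᵒᵖ ⥤ Cat.{v₂, u₂})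

theorem coG_mapId_inv_app (S : 𝒮) (x : F.obj (op S)) :
    ∃ h, (F.toPseudofunctor'.mapId ⟨op S⟩).inv.toNatTrans.app x = eqToHom h :=
  ⟨(congrArg (fun G : F.obj (op S) ⟶ F.obj (op S) => G.toFunctor.obj x) (F.map_id (op S))).symm, by
    simp [Functor.toPseudofunctor', pseudofunctorOfIsLocallyDiscrete]⟩

theorem coG_mapComp_inv_app {R S T : 𝒮} (f : R ⟶ S) (g : S ⟶ T) (x : F.obj (op T)) :
    ∃ h, (F.toPseudofunctor'.mapComp g.op.toLoc f.op.toLoc).inv.toNatTrans.app x = eqToHom h :=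
  ⟨(congrArg (fun G : F.obj (op T) ⟶ F.obj (op R) => G.toFunctor.obj x) (F.map_comp g.op f.op)).symm,
    by simp [Functor.toPseudofunctor', pseudofunctorOfIsLocallyDiscrete]⟩

theorem coG_eqToHom_base {a b : Pseudofunctor.CoGrothendieck F.toPseudofunctor'} (h : a = b) :
    (eqToHom h).base = eqToHom (congrArg Pseudofunctor.CoGrothendieck.base h) := by
  subst h; rfl

theorem coG_eqToHom_fiber {a b : Pseudofunctor.CoGrothendieck F.toPseudofunctor'} (h : a = b) :
    ∃ h', (eqToHom h).fiber = eqToHom h' := by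
  subst h
  exact coG_mapId_inv_app F a.base a.fiber

theorem coG_ext_obj {a b : Pseudofunctor.CoGrothendieck F.toPseudofunctor'} (h : a.base = b.base)
    (h' : (F.map (eqToHom h.symm).op).toFunctor.obj a.fiber = b.fiber) : a = b := by
  obtain ⟨s, x⟩ := a; obtain ⟨t, y⟩ := b
  dsimp only at h
  subst h
  simp at h'
  subst h'
  rfl

theorem isSplitting_ofCoGrothendieck :
    (FibCat.Cleavage.ofCoGrothendieck F.toPseudofunctor').IsSplitting := by
  constructor
  · rintro S ⟨S', x⟩ ha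
    subst ha
    have h : (FibCat.Cleavage.ofCoGrothendieck F.toPseudofunctor').obj (a := ⟨S', x⟩) rfl (𝟙 S') =
        ⟨S', x⟩ := by
      refine coG_ext_obj F rfl ?_
      show (F.map (𝟙 S').op).toFunctor.obj ((F.map (𝟙 S' ≫ 𝟙 S').op).toFunctor.obj x) = x
      simp
    refine ⟨h, Pseudofunctor.CoGrothendieck.Hom.ext _ _ ?_ ?_⟩
    · rw [coG_eqToHom_base]
      simp [FibCat.Cleavage.ofCoGrothendieck]
    · obtain ⟨h', e⟩ := coG_eqToHom_fiber F h
      rw [e]
      simp [FibCat.Cleavage.ofCoGrothendieck]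
  · rintro S T U f g ⟨S', x⟩ ha
    subst ha
    let K := FibCat.Cleavage.ofCoGrothendieck F.toPseudofunctor'
    have h : K.obj (K.obj_proj (a := ⟨S', x⟩) rfl f) g = K.obj (a := ⟨S', x⟩) rfl (g ≫ f) := by
      refine coG_ext_obj F rfl ?_
      show (F.map (𝟙 U).op).toFunctor.obj ((F.map (g ≫ 𝟙 T).op).toFunctor.obj
        ((F.map (f ≫ 𝟙 S').op).toFunctor.obj x)) = (F.map ((g ≫ f) ≫ 𝟙 S').op).toFunctor.obj x
      simp
    refine ⟨h, Pseudofunctor.CoGrothendieck.Hom.ext _ _ ?_ ?_⟩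
    · simp [coG_eqToHom_base, FibCat.Cleavage.ofCoGrothendieck]
    · obtain ⟨h', e⟩ := coG_eqToHom_fiber F h
      simp only [Pseudofunctor.CoGrothendieck.categoryStruct_comp_fiber, e]
      dsimp only [FibCat.Cleavage.ofCoGrothendieck]
      simp [Functor.toPseudofunctor', pseudofunctorOfIsLocallyDiscrete]

/-- A splitting is carried along an isomorphism of categories over the base. -/
theorem exists_isSplitting_of_iso {𝒳 : Type u₂} [Category.{v₂} 𝒳] {𝒴 : Type*} [Category 𝒴]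
    (q : 𝒴 ⥤ 𝒮) (K : FibCat.Cleavage q) (hK : K.IsSplitting) (Φ : 𝒳 ⥤ 𝒴) (Ψ : 𝒴 ⥤ 𝒳)
    (h₁ : Φ ⋙ Ψ = 𝟭 𝒳) (h₂ : Ψ ⋙ Φ = 𝟭 _) :
    ∃ L : FibCat.Cleavage (Φ ⋙ q), L.IsSplitting := by
  have hob : ∀ a, Ψ.obj (Φ.obj a) = a := fun a => congrArg (fun G : 𝒳 ⥤ 𝒳 => G.obj a) h₁
  have hob' : ∀ b, Φ.obj (Ψ.obj b) = b := fun b => congrArg (fun G : 𝒴 ⥤ 𝒴 => G.obj b) h₂
  have hm' : ∀ {b b' : 𝒴} (k : b ⟶ b'), Φ.map (Ψ.map k) = eqToHom (hob' b) ≫ k ≫ eqToHom (hob' b').symm :=
    fun k => by simpa using Functor.congr_hom h₂ k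
  have hm : ∀ {a a' : 𝒳} (k : a ⟶ a'), Ψ.map (Φ.map k) = eqToHom (hob a) ≫ k ≫ eqToHom (hob a').symm :=
    fun k => by simpa using Functor.congr_hom h₁ k
  have hlift : ∀ {R S : 𝒮} {b b' : 𝒴} (f : R ⟶ S) (k : b ⟶ b'), q.IsHomLift f k →
      (Φ ⋙ q).IsHomLift f (Ψ.map k) := fun {R S b b'} f k hk => by
    refine IsHomLift.of_fac' _ _ _ ((congrArg q.obj (hob' b)).trans (IsHomLift.domain_eq q f k))
      ((congrArg q.obj (hob' b')).trans (IsHomLift.codomain_eq q f k)) ?_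
    simp [hm', eqToHom_map, IsHomLift.fac' q f k]
  have hdown : ∀ {R S : 𝒮} {a a' : 𝒳} (f : R ⟶ S) (k : a ⟶ a'), (Φ ⋙ q).IsHomLift f k →
      q.IsHomLift f (Φ.map k) := fun f k hk => by
    refine IsHomLift.of_fac' _ _ _ (IsHomLift.domain_eq (Φ ⋙ q) f k)
      (IsHomLift.codomain_eq (Φ ⋙ q) f k) (IsHomLift.fac' (Φ ⋙ q) f k)
  have hΦ : Φ.Faithful := ⟨fun {a a'} k k' h => by
    have := congrArg Ψ.map h
    simpa [hm, cancel_epi, cancel_mono] using this⟩
  let L : FibCat.Cleavage (Φ ⋙ q) :=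
    { obj := fun {R S a} ha f => Ψ.obj (K.obj (a := Φ.obj a) ha f)
      lift := fun {R S a} ha f => Ψ.map (K.lift (a := Φ.obj a) ha f) ≫ eqToHom (hob a)
      isCartesian := fun {R S a} ha f => by
        have h1 : (Φ ⋙ q).IsHomLift f (Ψ.map (K.lift (a := Φ.obj a) ha f)) := hlift f _ inferInstance
        have : (Φ ⋙ q).IsHomLift f (Ψ.map (K.lift (a := Φ.obj a) ha f) ≫ eqToHom (hob a)) := by
          simpa using h1
        refine { universal_property := fun {c} k hk => ?_ }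
        have := hdown f k hk
        let χ := IsCartesian.map q f (K.lift (a := Φ.obj a) ha f) (Φ.map k)
        have hχ := hlift (𝟙 R) χ inferInstance
        have e : χ ≫ K.lift (a := Φ.obj a) ha f = Φ.map k := IsCartesian.fac _ _ _ _
        refine ⟨eqToHom (hob c).symm ≫ Ψ.map χ, ⟨inferInstance, ?_⟩, fun χ' hχ' => ?_⟩
        · rw [Category.assoc, ← Category.assoc (Ψ.map χ), ← Ψ.map_comp, e, hm]
          simp
        · have := hdown (𝟙 R) χ' hχ'.1
          have : Φ.map χ' ≫ eqToHom (hob' _) = χ := by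
            refine IsCartesian.map_uniq q f (K.lift (a := Φ.obj a) ha f) (Φ.map k) _ ?_
            rw [← hχ'.2]
            simp [hm', eqToHom_map]
          apply Φ.map_injective
          rw [← this]
          simp [hm', eqToHom_map] }
  refine ⟨L, fun {S a} ha => ?_, fun {S T U} f g {a} ha => ?_⟩
  · obtain ⟨h, e⟩ := hK.1 (show q.obj (Φ.obj a) = S from ha)
    exact ⟨(congrArg Ψ.obj h).trans (hob a), by simp [L, e, eqToHom_map]⟩
  · obtain ⟨h, e⟩ := hK.2 f g (show q.obj (Φ.obj a) = S from ha)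
    have hcongr : ∀ {b b' : 𝒴} (hbb : b' = b) (hb : q.obj b = T) (hb' : q.obj b' = T),
        ∃ h'' : K.obj hb' g = K.obj hb g, K.lift hb' g = eqToHom h'' ≫ K.lift hb g ≫ eqToHom hbb.symm := by
      intro b b' hbb hb hb'
      subst hbb
      exact ⟨rfl, by simp⟩
    obtain ⟨h'', e'⟩ := hcongr (hob' _) (K.obj_proj (a := Φ.obj a) ha f) (L.obj_proj (a := a) ha f)
    refine ⟨(congrArg Ψ.obj (h''.trans h)), ?_⟩
    simp only [L, e', eqToHom_map, Functor.map_comp, Category.assoc]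
    simp [← Functor.map_comp_assoc, e, eqToHom_map]

end Co

section Strict

variable {𝒮 : Type u₁} [Category.{v₁} 𝒮] {𝒳 : Type u₂} [Category.{v₂} 𝒳] {p : 𝒳 ⥤ 𝒮}
  (K : FibCat.Cleavage p) (hK : K.IsSplitting)

theorem lift_congr_obj {R S : 𝒮} {a a' : 𝒳} (h : a = a') (ha : p.obj a = S) (ha' : p.obj a' = S)
    (f : R ⟶ S) : ∃ h' : K.obj ha f = K.obj ha' f, K.lift ha f = eqToHom h' ≫ K.lift ha' f ≫ eqToHom h.symm := by
  subst h; exact ⟨rfl, by simp⟩

/-- The strict functor of inverse images of a splitting. -/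
noncomputable def splitFunctor : 𝒮ᵒᵖ ⥤ Cat.{v₂, u₂} where
  obj S := Cat.of (p.Fiber S.unop)
  map f := (K.inverseImage f.unop).toCatHom
  map_id S := by
    obtain ⟨S⟩ := S
    apply Cat.Hom.ext
    refine Functor.ext (fun a => Subtype.ext (hK.1 a.2).1) fun a b φ => ?_
    apply Functor.Fiber.hom_ext
    obtain ⟨ha, ea⟩ := hK.1 a.2
    obtain ⟨hb, eb⟩ := hK.1 b.2
    have := inverseImage_map_lift K (𝟙 S) φ
    rw [ea, eb] at this
    simp [eqToHom_map]
    rw [← cancel_mono (eqToHom hb)]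
    simpa using this
  map_comp {S T U} f g := by
    obtain ⟨f⟩ := f
    obtain ⟨g⟩ := g
    apply Cat.Hom.ext
    refine Functor.ext (fun a => Subtype.ext (hK.2 f g a.2).1.symm) fun a b φ => ?_
    apply fiber_hom_ext_lift K (g ≫ f)
    obtain ⟨ha, ea⟩ := hK.2 f g a.2
    obtain ⟨hb, eb⟩ := hK.2 f g b.2
    simp [eqToHom_map, ← eb]
    rw [reassoc_of% ea]
    simp

theorem exists_iso_coGrothendieck :
    ∃ (Φ : 𝒳 ⥤ Pseudofunctor.CoGrothendieck (splitFunctor K hK).toPseudofunctor')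
      (Ψ : Pseudofunctor.CoGrothendieck (splitFunctor K hK).toPseudofunctor' ⥤ 𝒳),
      Φ ⋙ Ψ = 𝟭 𝒳 ∧ Ψ ⋙ Φ = 𝟭 _ ∧
      Φ ⋙ Pseudofunctor.CoGrothendieck.forget (splitFunctor K hK).toPseudofunctor' = p := by
  let ψ : ∀ {a b : (Pseudofunctor.CoGrothendieck (splitFunctor K hK).toPseudofunctor')}, (a ⟶ b) → ((a.fiber : p.Fiber a.base).1 ⟶ (b.fiber : p.Fiber b.base).1) :=
    fun {a b} m => Fiber.fiberInclusion.map m.fiber ≫ K.lift b.fiber.2 m.base
  have hψ : ∀ {a b : (Pseudofunctor.CoGrothendieck (splitFunctor K hK).toPseudofunctor')} (m : a ⟶ b), p.IsHomLift m.base (ψ m) := fun {a b} m => by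
    have := m.fiber.2
    show p.IsHomLift m.base (Fiber.fiberInclusion.map m.fiber ≫ K.lift b.fiber.2 m.base)
    infer_instance
  let Ψ : (Pseudofunctor.CoGrothendieck (splitFunctor K hK).toPseudofunctor') ⥤ 𝒳 :=
    { obj := fun a => (a.fiber : p.Fiber a.base).1
      map := ψ
      map_id := fun a => by
        obtain ⟨h, e⟩ := coG_mapId_inv_app (splitFunctor K hK) a.base a.fiber
        obtain ⟨h', e'⟩ := hK.1 a.fiber.2
        simp only [ψ, Pseudofunctor.CoGrothendieck.categoryStruct_id_fiber,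
          Pseudofunctor.CoGrothendieck.categoryStruct_id_base]
        rw [e, e']
        simp [eqToHom_map]
      map_comp := fun {a b c} m n => by
        obtain ⟨h, e⟩ := coG_mapComp_inv_app (splitFunctor K hK) m.base n.base c.fiber
        obtain ⟨h', e'⟩ := hK.2 n.base m.base c.fiber.2
        simp only [ψ, Pseudofunctor.CoGrothendieck.categoryStruct_comp_fiber,
          Pseudofunctor.CoGrothendieck.categoryStruct_comp_base]
        rw [e]
        simp only [Category.assoc, Functor.map_comp]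
        congr 1
        rw [← reassoc_of% (inverseImage_map_lift K m.base n.fiber)]
        congr 1
        rw [eqToHom_map, e'] }
  have hbase : ∀ {a b : (Pseudofunctor.CoGrothendieck (splitFunctor K hK).toPseudofunctor')} (m : a ⟶ b),
      m.base = eqToHom a.fiber.2.symm ≫ p.map (Ψ.map m) ≫ eqToHom b.fiber.2 := fun m => by
    have := hψ m
    exact IsHomLift.fac p m.base (ψ m)
  have hfaith : Ψ.Faithful := ⟨fun {a b} m m' h => by
    obtain ⟨mb, mf⟩ := m
    obtain ⟨mb', mf'⟩ := m'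
    obtain rfl : mb = mb' := (hbase ⟨mb, mf⟩).trans ((congrArg (fun z => eqToHom a.fiber.2.symm ≫ p.map z ≫ eqToHom b.fiber.2) h).trans
      (hbase ⟨mb', mf'⟩).symm)
    congr 1
    exact fiber_hom_ext_lift K mb h⟩
  let φ : ∀ {x y : 𝒳} (k : x ⟶ y), ((⟨p.obj x, ⟨x, rfl⟩⟩ : (Pseudofunctor.CoGrothendieck (splitFunctor K hK).toPseudofunctor')) ⟶ ⟨p.obj y, ⟨y, rfl⟩⟩) := fun {x y} k =>
    { base := p.map k
      fiber := ⟨IsCartesian.map p (p.map k) (K.lift rfl (p.map k)) k, inferInstance⟩ }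
  have hφ : ∀ {x y : 𝒳} (k : x ⟶ y), Ψ.map (φ k) = k :=
    fun k => IsCartesian.fac p (p.map k) (K.lift rfl (p.map k)) k
  let Φ : 𝒳 ⥤ (Pseudofunctor.CoGrothendieck (splitFunctor K hK).toPseudofunctor') :=
    { obj := fun x => ⟨p.obj x, ⟨x, rfl⟩⟩
      map := φ
      map_id := fun x => Ψ.map_injective (by rw [hφ, Ψ.map_id])
      map_comp := fun k l => Ψ.map_injective (by rw [Ψ.map_comp, hφ, hφ, hφ]) }
  refine ⟨Φ, Ψ, Functor.ext (fun x => rfl) (fun x y k => by simpa using hφ k), ?_, rfl⟩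
  refine Functor.ext (fun a => ?_) (fun a b m => Ψ.map_injective ?_)
  · obtain ⟨S, f⟩ := a
    obtain ⟨x, hx⟩ := (f : p.Fiber S)
    cases hx
    rfl
  · simp only [Functor.comp_map, Functor.id_map, Functor.map_comp, eqToHom_map]
    show Ψ.map (φ (Ψ.map m)) = _
    simp [hφ]

end Strict

end Groth.Agent.FibC
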