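import Groth.Agent.FibC.SplitCoGroth

/-!
Strictification of fibred categories: every fibred category is equivalent over the base to the
category of a strict functor (via the category of formal inverse images).
-/

set_option backward.isDefEq.respectTransparency false
set_option backward.isDefEq.respectTransparency.types false
set_option autoImplicit false

universe v u

open CategoryTheory CategoryTheory.Functor

namespace Groth.Agent.FibC.Strictify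

variable {C : Type u} [Category.{v} C] (𝒳 : BasedCategory.{v, max u v} C) [𝒳.p.IsFibered]

/-- A formal inverse image `g^* a`. -/
structure W where
  a : 𝒳.obj
  R : C
  g : R ⟶ 𝒳.p.obj a

noncomputable def K : FibCat.Cleavage 𝒳.p := FibCat.Cleavage.ofIsPreFibered 𝒳.p

noncomputable def val (w : W 𝒳) : 𝒳.obj := (K 𝒳).obj (a := w.a) rfl w.g

noncomputable def L (w : W 𝒳) : val 𝒳 w ⟶ w.a := (K 𝒳).lift (a := w.a) rfl w.g

instance cart_L (w : W 𝒳) : 𝒳.p.IsCartesian w.g (L 𝒳 w) := (K 𝒳).isCartesian _ _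

abbrev Ind := InducedCategory 𝒳.obj (val 𝒳)

noncomputable abbrev q : Ind 𝒳 ⥤ C := inducedFunctor (val 𝒳) ⋙ 𝒳.p

theorem obj_q (w : W 𝒳) : (q 𝒳).obj w = w.R := (K 𝒳).obj_proj (a := w.a) rfl w.g

theorem lift_iff {R S : C} {w w' : Ind 𝒳} (f : R ⟶ S) (m : w ⟶ w') :
    (q 𝒳).IsHomLift f m ↔ 𝒳.p.IsHomLift f m.hom := by
  constructor
  · intro h
    exact IsHomLift.of_fac' _ _ _ (IsHomLift.domain_eq (q 𝒳) f m) (IsHomLift.codomain_eq (q 𝒳) f m)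
      (IsHomLift.fac' (q 𝒳) f m)
  · intro h
    exact IsHomLift.of_fac' _ _ _ (IsHomLift.domain_eq 𝒳.p f m.hom) (IsHomLift.codomain_eq 𝒳.p f m.hom)
      (IsHomLift.fac' 𝒳.p f m.hom)

theorem eqToHom_L {w w' : Ind 𝒳} (h : w = w') :
    (eqToHom h).hom ≫ L 𝒳 w' = L 𝒳 w ≫ eqToHom (congrArg W.a h) := by
  subst h
  simp

variable {𝒳}

/-- The formal inverse image of a formal inverse image. -/
def pull {R' S : C} (w : Ind 𝒳) (ha : (q 𝒳).obj w = S) (f : R' ⟶ S) : Ind 𝒳 :=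
  (⟨w.a, R', f ≫ eqToHom (ha.symm.trans (obj_q 𝒳 w)) ≫ w.g⟩ : W 𝒳)

theorem isSC_L {S : C} (w : Ind 𝒳) (ha : (q 𝒳).obj w = S) :
    𝒳.p.IsStronglyCartesian (eqToHom (ha.symm.trans (obj_q 𝒳 w)) ≫ w.g) (L 𝒳 w) := by
  obtain rfl : S = w.R := ha.symm.trans (obj_q 𝒳 w)
  simpa using IsFibered.isStronglyCartesian_of_isCartesian 𝒳.p w.g (L 𝒳 w)

theorem exists_mor {R' S : C} (w : Ind 𝒳) (ha : (q 𝒳).obj w = S) (f : R' ⟶ S) :
    ∃ χ : val 𝒳 (pull w ha f) ⟶ val 𝒳 w, 𝒳.p.IsStronglyCartesian f χ ∧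
      χ ≫ L 𝒳 w = L 𝒳 (pull w ha f) := by
  have := isSC_L w ha
  have h2 : 𝒳.p.IsStronglyCartesian (f ≫ eqToHom (ha.symm.trans (obj_q 𝒳 w)) ≫ w.g)
      (L 𝒳 (pull w ha f)) :=
    IsFibered.isStronglyCartesian_of_isCartesian 𝒳.p (pull w ha f).g (L 𝒳 (pull w ha f))
  obtain ⟨χ, ⟨h, h'⟩, -⟩ := IsStronglyCartesian.universal_property 𝒳.p
    (eqToHom (ha.symm.trans (obj_q 𝒳 w)) ≫ w.g) (L 𝒳 w) f _ rfl (L 𝒳 (pull w ha f))
  refine ⟨χ, ?_, h'⟩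
  have : 𝒳.p.IsStronglyCartesian (f ≫ eqToHom (ha.symm.trans (obj_q 𝒳 w)) ≫ w.g) (χ ≫ L 𝒳 w) := by
    rw [h']; exact h2
  exact IsStronglyCartesian.of_comp 𝒳.p (g := eqToHom (ha.symm.trans (obj_q 𝒳 w)) ≫ w.g)
    (ψ := L 𝒳 w)

noncomputable def mor {R' S : C} (w : Ind 𝒳) (ha : (q 𝒳).obj w = S) (f : R' ⟶ S) :
    pull w ha f ⟶ w :=
  InducedCategory.homMk (exists_mor w ha f).choose

instance sc_mor {R' S : C} (w : Ind 𝒳) (ha : (q 𝒳).obj w = S) (f : R' ⟶ S) :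
    𝒳.p.IsStronglyCartesian f (mor w ha f).hom :=
  (exists_mor w ha f).choose_spec.1

theorem mor_L {R' S : C} (w : Ind 𝒳) (ha : (q 𝒳).obj w = S) (f : R' ⟶ S) :
    (mor w ha f).hom ≫ L 𝒳 w = L 𝒳 (pull w ha f) :=
  (exists_mor w ha f).choose_spec.2

/-- Morphisms over the same arrow are determined by their composites with the chosen lift. -/
theorem hom_ext {R' S : C} {w' w : Ind 𝒳} (ha : (q 𝒳).obj w = S) (f : R' ⟶ S) {m m' : w' ⟶ w}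
    (hm : (q 𝒳).IsHomLift f m) (hm' : (q 𝒳).IsHomLift f m')
    (h : m.hom ≫ L 𝒳 w = m'.hom ≫ L 𝒳 w) : m = m' := by
  have := isSC_L w ha
  have := (lift_iff 𝒳 f m).1 hm
  have := (lift_iff 𝒳 f m').1 hm'
  exact InducedCategory.hom_ext (IsStronglyCartesian.ext 𝒳.p
    (eqToHom (ha.symm.trans (obj_q 𝒳 w)) ≫ w.g) (L 𝒳 w) f h)

noncomputable def cleavage : FibCat.Cleavage (q 𝒳) where
  obj {R S a} ha f := pull a ha f
  lift {R S a} ha f := mor a ha f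
  isCartesian {R S a} ha f := by
    have : (q 𝒳).IsHomLift f (mor a ha f) := (lift_iff 𝒳 f _).2 inferInstance
    refine { universal_property := fun {c} k hk => ?_ }
    have := (lift_iff 𝒳 f k).1 hk
    refine ⟨InducedCategory.homMk (IsCartesian.map 𝒳.p f (mor a ha f).hom k.hom),
      ⟨(lift_iff 𝒳 _ _).2 (IsCartesian.map_isHomLift 𝒳.p f (mor a ha f).hom k.hom),
        InducedCategory.hom_ext (IsCartesian.fac 𝒳.p f (mor a ha f).hom k.hom)⟩, fun χ hχ => ?_⟩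
    have := (lift_iff 𝒳 _ _).1 hχ.1
    exact InducedCategory.hom_ext (IsCartesian.map_uniq 𝒳.p f (mor a ha f).hom k.hom χ.hom
      (congrArg InducedCategory.Hom.hom hχ.2))

theorem lift_eqToHom {w w' : Ind 𝒳} (h : w = w') {S : C} (hw : (q 𝒳).obj w = S) :
    (q 𝒳).IsHomLift (𝟙 S) (eqToHom h) := by
  subst h
  exact IsHomLift.id hw

theorem isSplitting_cleavage : (cleavage (𝒳 := 𝒳)).IsSplitting := by
  refine ⟨fun {S a} ha => ?_, fun {S T U} f g {a} ha => ?_⟩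
  · have h : pull a ha (𝟙 S) = a := by
      obtain rfl : S = a.R := ha.symm.trans (obj_q 𝒳 a)
      simp [pull]
      rfl
    refine ⟨h, hom_ext ha (𝟙 S)
      ((lift_iff 𝒳 _ _).2 (show 𝒳.p.IsHomLift (𝟙 S) (mor a ha (𝟙 S)).hom from inferInstance))
      (lift_eqToHom h (obj_q 𝒳 _)) ?_⟩
    show (mor a ha (𝟙 S)).hom ≫ _ = _
    rw [mor_L, eqToHom_L]
    exact (Category.comp_id _).symm
  · have h : pull (pull a ha f) (cleavage.obj_proj ha f) g = pull a ha (g ≫ f) := by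
      simp [pull]
    refine ⟨h, hom_ext ha (g ≫ f) ?_ ?_ ?_⟩
    · refine (lift_iff 𝒳 _ _).2 ?_
      show 𝒳.p.IsHomLift (g ≫ f) ((mor (pull a ha f) _ g).hom ≫ (mor a ha f).hom)
      infer_instance
    · have : (q 𝒳).IsHomLift (𝟙 U) (eqToHom h) := lift_eqToHom h (obj_q 𝒳 _)
      have : (q 𝒳).IsHomLift (g ≫ f) (mor a ha (g ≫ f)) := (lift_iff 𝒳 _ _).2 inferInstance
      show (q 𝒳).IsHomLift (g ≫ f) (eqToHom h ≫ mor a ha (g ≫ f))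
      exact IsHomLift.comp_lift_id_left' (q 𝒳) U (eqToHom h) (g ≫ f) (mor a ha (g ≫ f))
    · show ((mor (pull a ha f) _ g).hom ≫ (mor a ha f).hom) ≫ L 𝒳 a =
        ((eqToHom h).hom ≫ (mor a ha (g ≫ f)).hom) ≫ L 𝒳 a
      rw [Category.assoc, Category.assoc, mor_L, mor_L, mor_L, eqToHom_L]
      exact (Category.comp_id _).symm

variable (𝒳)

/-- The tautological object. -/
def mk1 (x : 𝒳.obj) : Ind 𝒳 := (⟨x, 𝒳.p.obj x, 𝟙 _⟩ : W 𝒳)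

instance isIso_L (x : 𝒳.obj) : IsIso (L 𝒳 (mk1 𝒳 x)) := by
  have := cart_L 𝒳 (mk1 𝒳 x)
  have h : 𝒳.p.IsStronglyCartesian (𝟙 (𝒳.p.obj x)) (L 𝒳 (mk1 𝒳 x)) :=
    IsFibered.isStronglyCartesian_of_isCartesian 𝒳.p (mk1 𝒳 x).g (L 𝒳 (mk1 𝒳 x))
  exact IsStronglyCartesian.isIso_of_base_isIso 𝒳.p (𝟙 (𝒳.p.obj x)) (L 𝒳 (mk1 𝒳 x))

instance lift_L1 (x : 𝒳.obj) : 𝒳.p.IsHomLift (𝟙 (𝒳.p.obj x)) (L 𝒳 (mk1 𝒳 x)) :=
  (cart_L 𝒳 (mk1 𝒳 x)).toIsHomLift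

noncomputable def incl : 𝒳 ⥤ᵇ BasedCategory.ofFunctor (q 𝒳) where
  toFunctor :=
    { obj := mk1 𝒳
      map := fun {x y} φ => InducedCategory.homMk (L 𝒳 (mk1 𝒳 x) ≫ φ ≫ inv (L 𝒳 (mk1 𝒳 y)))
      map_id := fun x => by
        apply InducedCategory.hom_ext
        show L 𝒳 (mk1 𝒳 x) ≫ 𝟙 x ≫ inv (L 𝒳 (mk1 𝒳 x)) = 𝟙 (val 𝒳 (mk1 𝒳 x))
        exact (congrArg _ (Category.id_comp _)).trans (IsIso.hom_inv_id _)
      map_comp := fun {x y z} φ ψ => by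
        apply InducedCategory.hom_ext
        show L 𝒳 (mk1 𝒳 x) ≫ (φ ≫ ψ) ≫ inv (L 𝒳 (mk1 𝒳 z)) =
          (L 𝒳 (mk1 𝒳 x) ≫ φ ≫ inv (L 𝒳 (mk1 𝒳 y))) ≫ L 𝒳 (mk1 𝒳 y) ≫ ψ ≫ inv (L 𝒳 (mk1 𝒳 z))
        simp }
  w := Functor.ext (fun x => (K 𝒳).obj_proj (a := x) rfl (𝟙 _)) fun x y φ =>
    IsHomLift.fac' 𝒳.p (𝒳.p.map φ) (L 𝒳 (mk1 𝒳 x) ≫ φ ≫ inv (L 𝒳 (mk1 𝒳 y)))

instance : (incl 𝒳).toFunctor.Faithful where
  map_injective {x y} φ ψ h := by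
    simpa [incl, cancel_epi, cancel_mono] using congrArg InducedCategory.Hom.hom h

instance : (incl 𝒳).toFunctor.Full where
  map_surjective {x y} m := ⟨inv (L 𝒳 (mk1 𝒳 x)) ≫ m.hom ≫ L 𝒳 (mk1 𝒳 y), by
    apply InducedCategory.hom_ext
    show L 𝒳 (mk1 𝒳 x) ≫ (inv (L 𝒳 (mk1 𝒳 x)) ≫ m.hom ≫ L 𝒳 (mk1 𝒳 y)) ≫
      inv (L 𝒳 (mk1 𝒳 y)) = m.hom
    simp⟩

theorem essSurjOver (w : Ind 𝒳) : ∃ (x : 𝒳.obj) (e : (incl 𝒳).toFunctor.obj x ≅ w),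
    (q 𝒳).IsHomLift (𝟙 ((q 𝒳).obj w)) e.hom :=
  ⟨val 𝒳 w, (fullyFaithfulInducedFunctor (val 𝒳)).preimageIso (asIso (L 𝒳 (mk1 𝒳 (val 𝒳 w)))),
    (lift_iff 𝒳 _ _).2 (lift_L1 𝒳 (val 𝒳 w))⟩

/-- The strict functor. -/
noncomputable def strict : Cᵒᵖ ⥤ Cat.{v, max u v} :=
  splitFunctor (cleavage (𝒳 := 𝒳)) isSplitting_cleavage

theorem exists_equivOver :
    ∃ E : 𝒳 ⥤ᵇ BasedCategory.ofFunctor (Pseudofunctor.CoGrothendieck.forget (strict 𝒳).toPseudofunctor'),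
      FibCat.IsEquivOver E := by
  obtain ⟨Φ, Ψ, h₁, h₂, h₃⟩ := exists_iso_coGrothendieck (cleavage (𝒳 := 𝒳)) isSplitting_cleavage
  let E : 𝒳 ⥤ᵇ BasedCategory.ofFunctor (Pseudofunctor.CoGrothendieck.forget (strict 𝒳).toPseudofunctor') :=
    { toFunctor := (incl 𝒳).toFunctor ⋙ Φ
      w := by
        rw [Functor.assoc]
        erw [h₃]
        exact (incl 𝒳).w }
  let eqv : Ind 𝒳 ≌ _ := CategoryTheory.Equivalence.mk Φ Ψ (eqToIso h₁.symm) (eqToIso h₂)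
  have : Φ.IsEquivalence := eqv.isEquivalence_functor
  have : E.toFunctor.Full := inferInstanceAs ((incl 𝒳).toFunctor ⋙ Φ).Full
  have : E.toFunctor.Faithful := inferInstanceAs ((incl 𝒳).toFunctor ⋙ Φ).Faithful
  refine ⟨E, isEquivOver_of_fullyFaithful E fun η => ?_⟩
  obtain ⟨x, e, he⟩ := essSurjOver 𝒳 (Ψ.obj η)
  have hη : Φ.obj (Ψ.obj η) = η := congrArg (fun G => G.obj η) h₂
  refine ⟨x, Φ.mapIso e ≪≫ eqToIso hη, ?_⟩
  have hq : ∀ {a b : Ind 𝒳} (m : a ⟶ b) {R S : C} (f : R ⟶ S), (q 𝒳).IsHomLift f m →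
      (Pseudofunctor.CoGrothendieck.forget (strict 𝒳).toPseudofunctor').IsHomLift f (Φ.map m) := by
    intro a b m R S f hm
    refine IsHomLift.of_fac' _ _ _ ((congrArg (fun G => G.obj a) h₃).trans (IsHomLift.domain_eq (q 𝒳) f m))
      ((congrArg (fun G => G.obj b) h₃).trans (IsHomLift.codomain_eq (q 𝒳) f m)) ?_
    have h4 := Functor.congr_hom h₃ m
    rw [IsHomLift.fac' (q 𝒳) f m] at h4
    exact h4.trans (by simp)
  have hb : (q 𝒳).obj (Ψ.obj η) = (Pseudofunctor.CoGrothendieck.forget (strict 𝒳).toPseudofunctor').obj η :=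
    (congrArg (fun G => G.obj (Ψ.obj η)) h₃).symm.trans
      (congrArg (fun z => (Pseudofunctor.CoGrothendieck.forget (strict 𝒳).toPseudofunctor').obj z) hη)
  have := hq e.hom _ he
  show (Pseudofunctor.CoGrothendieck.forget (strict 𝒳).toPseudofunctor').IsHomLift _
    (Φ.map e.hom ≫ eqToHom hη)
  rw [hb] at this
  exact (IsHomLift.eqToHom_comp_lift_iff (Pseudofunctor.CoGrothendieck.forget (strict 𝒳).toPseudofunctor') _ _ hη).2 this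

theorem isGroupoid_strict (h : FibCat.IsFibGrpd 𝒳.p) (U : Cᵒᵖ) : IsGroupoid ((strict 𝒳).obj U) := by
  refine ⟨fun {a b} φ => ?_⟩
  change a ⟶ b at φ
  let φ' : (a : (q 𝒳).Fiber U.unop) ⟶ b := φ
  have := (lift_iff 𝒳 _ _).1 φ'.2
  have : IsIso φ'.1.hom := isIso_of_fibGrpd h (𝟙 U.unop) φ'.1.hom
  have : IsIso φ'.1 := by
    have : IsIso ((inducedFunctor (val 𝒳)).map φ'.1) := this
    exact isIso_of_fully_faithful (inducedFunctor (val 𝒳)) φ'.1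
  have := φ'.2
  exact ⟨⟨inv φ'.1, inferInstance⟩, Subtype.ext (IsIso.hom_inv_id φ'.1),
    Subtype.ext (IsIso.inv_hom_id φ'.1)⟩

end Groth.Agent.FibC.Strictify
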