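import Groth.Agent.FibC.SetFib
import Groth.Agent.FibC.Fp

/-!
The 2-Yoneda lemma for categories over a base.
-/

set_option backward.isDefEq.respectTransparency false
set_option backward.isDefEq.respectTransparency.types false

universe v₃ u₃ v₂ u₂ v u

open CategoryTheory CategoryTheory.Functor

namespace Groth.Agent.FibC

variable {C : Type u} [Category.{v} C] {𝒳 : BasedCategory.{v₂, u₂} C}

/-- The identity of `U`, as an object of `C/U`. -/
abbrev overTop (U : C) : (FibCat.overCat U).obj := Over.mk (𝟙 U)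

/-- The morphism to `overTop`. -/
abbrev toTop {U : C} (a : (FibCat.overCat U).obj) : a ⟶ overTop U :=
  Over.homMk (show Over.left a ⟶ U from Over.hom a) (Category.comp_id _)

/-- Pushforward of slices along `h : V ⟶ U`. -/
abbrev overMap {V U : C} (h : V ⟶ U) : FibCat.overCat V ⥤ᵇ FibCat.overCat U :=
  ⟨Over.map h, Over.mapForget_eq h⟩

theorem over_sc {U : C} {a b : (FibCat.overCat U).obj} (k : a ⟶ b) :
    (FibCat.overCat U).p.IsStronglyCartesian k.left k :=
  (overForget_isFibSet U).1.isStronglyCartesian k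

theorem over_lift {U : C} {a b : (FibCat.overCat U).obj} (k : a ⟶ b) :
    (FibCat.overCat U).p.IsHomLift k.left k :=
  Functor.IsHomLift.map (p := Over.forget U) k

theorem map_lift {U : C} (G : FibCat.overCat U ⥤ᵇ 𝒳) {a b : (FibCat.overCat U).obj} (k : a ⟶ b) :
    𝒳.p.IsHomLift k.left (G.toFunctor.map k) :=
  have := over_lift k
  inferInstance

theorem map_sc {U : C} {G : FibCat.overCat U ⥤ᵇ 𝒳} (hG : FibCat.PreservesStronglyCartesian G)
    {a b : (FibCat.overCat U).obj} (k : a ⟶ b) :
    𝒳.p.IsStronglyCartesian k.left (G.toFunctor.map k) :=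
  hG k.left k (over_sc k)

/-- A based natural transformation out of `C/U` is determined by its value at the identity. -/
theorem yoneda_injective {U : C} {G H : FibCat.overCat U ⥤ᵇ 𝒳}
    (hH : FibCat.PreservesStronglyCartesian H) {α β : G ⟶ H}
    (h : α.toNatTrans.app (overTop U) = β.toNatTrans.app (overTop U)) : α = β := by
  apply BasedNatTrans.homCategory.ext
  apply NatTrans.ext
  funext a
  have := map_sc hH (toTop a)
  have hα : 𝒳.p.IsHomLift (𝟙 (Over.left a)) (α.toNatTrans.app a) := BasedNatTrans.app_isHomLift α a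
  have hβ : 𝒳.p.IsHomLift (𝟙 (Over.left a)) (β.toNatTrans.app a) := BasedNatTrans.app_isHomLift β a
  apply IsStronglyCartesian.ext 𝒳.p (toTop a).left (H.toFunctor.map (toTop a)) (𝟙 (Over.left a))
  rw [← α.toNatTrans.naturality, ← β.toNatTrans.naturality, h]

/-- A morphism over the identity between the values at the identity of `U` extends to a based
natural transformation. -/
theorem yoneda_surjective {U : C} {G H : FibCat.overCat U ⥤ᵇ 𝒳}
    (hH : FibCat.PreservesStronglyCartesian H)
    (θ : G.toFunctor.obj (overTop U) ⟶ H.toFunctor.obj (overTop U)) [𝒳.p.IsHomLift (𝟙 U) θ] :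
    ∃ α : G ⟶ H, α.toNatTrans.app (overTop U) = θ := by
  have hex : ∀ a : (FibCat.overCat U).obj, ∃ c : G.toFunctor.obj a ⟶ H.toFunctor.obj a,
      𝒳.p.IsHomLift (𝟙 (Over.left a)) c ∧
        c ≫ H.toFunctor.map (toTop a) = G.toFunctor.map (toTop a) ≫ θ := by
    intro a
    have := map_sc hH (toTop a)
    have := map_lift G (toTop a)
    have : 𝒳.p.IsHomLift (𝟙 (Over.left (overTop U))) θ := ‹𝒳.p.IsHomLift (𝟙 U) θ›
    have : 𝒳.p.IsHomLift (toTop a).left (G.toFunctor.map (toTop a) ≫ θ) :=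
      IsHomLift.comp_lift_id_right 𝒳.p _ _ _
    exact (IsStronglyCartesian.universal_property 𝒳.p (toTop a).left (H.toFunctor.map (toTop a))
      (𝟙 (Over.left a)) _ (Category.id_comp _).symm (G.toFunctor.map (toTop a) ≫ θ)).exists
  choose c hc hc' using hex
  refine ⟨{ toNatTrans := { app := c, naturality := fun a b k => ?_ }, isHomLift' := hc }, ?_⟩
  · have := map_sc hH (toTop b)
    have := map_lift G k
    have := map_lift H k
    have := hc a
    have := hc b
    have h1 : 𝒳.p.IsHomLift k.left (G.toFunctor.map k ≫ c b) := inferInstance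
    have h2 : 𝒳.p.IsHomLift k.left (c a ≫ H.toFunctor.map k) := inferInstance
    apply IsStronglyCartesian.ext 𝒳.p (toTop b).left (H.toFunctor.map (toTop b)) k.left
    have hk : k ≫ toTop b = toTop a := Over.OverMorphism.ext (Over.w k)
    rw [Category.assoc, Category.assoc, hc', ← Functor.map_comp, hk, hc', ← Category.assoc,
      ← Functor.map_comp, hk]
  · show c (overTop U) = θ
    have h := hc' (overTop U)
    have e : toTop (overTop U) = 𝟙 _ := Over.OverMorphism.ext rfl
    simpa [e] using h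

theorem preserves_overCat {U : C} (h : FibCat.IsFibGrpd 𝒳.p) (G : FibCat.overCat U ⥤ᵇ 𝒳) :
    FibCat.PreservesStronglyCartesian G :=
  preservesSC_of_fibGrpd h

/-- Isomorphic values at the identity give isomorphic functors out of `C/U`. -/
theorem yoneda_iso {U : C} {G H : FibCat.overCat U ⥤ᵇ 𝒳}
    (hG : FibCat.PreservesStronglyCartesian G) (hH : FibCat.PreservesStronglyCartesian H)
    (e : G.toFunctor.obj (overTop U) ≅ H.toFunctor.obj (overTop U))
    (he : 𝒳.p.IsHomLift (𝟙 U) e.hom) :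
    ∃ ε : G ≅ H, ε.hom.toNatTrans.app (overTop U) = e.hom := by
  obtain ⟨α, hα⟩ := yoneda_surjective hH e.hom
  obtain ⟨β, hβ⟩ := yoneda_surjective hG e.inv
  refine ⟨⟨α, β, yoneda_injective hG ?_, yoneda_injective hH ?_⟩, hα⟩
  · show α.toNatTrans.app _ ≫ β.toNatTrans.app _ = 𝟙 _
    rw [hα, hβ, e.hom_inv_id]
  · show β.toNatTrans.app _ ≫ α.toNatTrans.app _ = 𝟙 _
    rw [hα, hβ, e.inv_hom_id]

/-- Every object over `U` is the value at the identity of a cartesian functor `C/U ⟶ 𝒳`. -/
theorem exists_overLift [𝒳.p.IsFibered] {U : C} (x : 𝒳.obj) (hx : 𝒳.p.obj x = U) :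
    ∃ G : FibCat.overCat U ⥤ᵇ 𝒳, FibCat.PreservesStronglyCartesian G ∧
      ∃ e : G.toFunctor.obj (overTop U) ≅ x, 𝒳.p.IsHomLift (𝟙 U) e.hom := by
  have hex : ∀ a : (FibCat.overCat U).obj, ∃ (y : 𝒳.obj) (φ : y ⟶ x),
      𝒳.p.IsStronglyCartesian (toTop a).left φ := fun a => exists_sc_lift hx _
  choose y φ hφ using hex
  have hm : ∀ {a b : (FibCat.overCat U).obj} (k : a ⟶ b), ∃ c : y a ⟶ y b,
      𝒳.p.IsHomLift k.left c ∧ c ≫ φ b = φ a := by
    intro a b k
    have := hφ a
    have := hφ b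
    exact (IsStronglyCartesian.universal_property 𝒳.p (toTop b).left (φ b) k.left
      (toTop a).left (Over.w k).symm (φ a)).exists
  choose c hc hc' using @hm
  have hy : ∀ a, 𝒳.p.obj (y a) = Over.left a := fun a =>
    have := hφ a
    IsHomLift.domain_eq 𝒳.p (toTop a).left (φ a)
  let G₀ : (FibCat.overCat U).obj ⥤ 𝒳.obj :=
    { obj := y
      map := fun k => c k
      map_id := fun a => by
        have := hφ a
        have := hc (𝟙 a)
        have : 𝒳.p.IsHomLift (Over.Hom.left (𝟙 a)) (𝟙 (y a)) := IsHomLift.id (hy a)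
        apply IsStronglyCartesian.ext 𝒳.p (toTop a).left (φ a) (Over.Hom.left (𝟙 a))
        rw [hc', Category.id_comp]
      map_comp := fun {a b d} k l => by
        have := hφ d
        have := hc (k ≫ l)
        have := hc k
        have := hc l
        have : 𝒳.p.IsHomLift (Over.Hom.left (k ≫ l)) (c k ≫ c l) :=
          IsHomLift.comp 𝒳.p k.left l.left (c k) (c l)
        apply IsStronglyCartesian.ext 𝒳.p (toTop d).left (φ d) (Over.Hom.left (k ≫ l))
        rw [Category.assoc, hc', hc', hc'] }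
  refine ⟨⟨G₀, Functor.ext hy fun a b k => ?_⟩, ?_, ?_⟩
  · have := hc k
    exact IsHomLift.fac' 𝒳.p k.left (c k)
  · intro R S f a b k hk
    have hl := hc k
    have := hφ a
    have := hφ b
    have hw : (toTop a).left = k.left ≫ (toTop b).left := (Over.w k).symm
    have : 𝒳.p.IsStronglyCartesian (k.left ≫ (toTop b).left) (c k ≫ φ b) := by
      rw [← hw, hc']; infer_instance
    have hsc : 𝒳.p.IsStronglyCartesian k.left (c k) :=
      IsStronglyCartesian.of_comp 𝒳.p (g := (toTop b).left) (ψ := φ b)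
    subst_hom_lift (FibCat.overCat U).p f k
    exact hsc
  · have h := hφ (overTop U)
    have h' : 𝒳.p.IsStronglyCartesian (𝟙 U) (φ (overTop U)) := h
    have : IsIso (φ (overTop U)) := IsStronglyCartesian.isIso_of_base_isIso 𝒳.p (𝟙 U) _
    exact ⟨asIso (φ (overTop U)), h'.toIsHomLift⟩

theorem exists_overLift_fibGrpd (h : FibCat.IsFibGrpd 𝒳.p) {U : C} (x : 𝒳.obj) (hx : 𝒳.p.obj x = U) :
    ∃ G : FibCat.overCat U ⥤ᵇ 𝒳,
      ∃ e : G.toFunctor.obj (overTop U) ≅ x, 𝒳.p.IsHomLift (𝟙 U) e.hom :=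
  have := fibGrpd_isFibered h
  let ⟨G, _, he⟩ := exists_overLift x hx
  ⟨G, he⟩

theorem evalAtId_isEquivalence (h : FibCat.IsFibGrpd 𝒳.p) (U : C) :
    (FibCat.evalAtId 𝒳 U).IsEquivalence := by
  refine { faithful := ⟨fun {G H} α β e => ?_⟩, full := ⟨fun {G H} θ => ?_⟩, essSurj := ⟨fun x => ?_⟩ }
  · exact yoneda_injective (preserves_overCat h H) (congrArg Subtype.val e)
  · have := θ.2
    obtain ⟨α, hα⟩ := yoneda_surjective (preserves_overCat h H)
      (θ.1 : G.toFunctor.obj (overTop U) ⟶ H.toFunctor.obj (overTop U))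
    exact ⟨α, Subtype.ext hα⟩
  · obtain ⟨G, e, he⟩ := exists_overLift_fibGrpd h x.1 x.2
    exact ⟨G, ⟨fiberIso _ _ e he⟩⟩

end Groth.Agent.FibC
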